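import Cfsg.Agent.Lib.Spor.Leech.OddFix.Fusion
import Cfsg.Agent.Lib.Spor.Golay.PermConj
import Cfsg.Agent.Lib.Spor.Leech.OddFix.Mono
import Cfsg.Agent.Lib.Spor.Leech.SixFix.Data

/-!
The classes of the rank 24 lattice modulo two fixed by a coordinate permutation of order three with six fixed points.
-/

set_option autoImplicit false
set_option maxRecDepth 100000

noncomputable section

namespace Cfsg.Agent.Spor.Leech.SixFix

open Cfsg Cfsg.Agent.Spor.Leech.OddFix
open Cfsg.Agent.Spor.CoSuz (decV HasT)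

theorem g3_checks : Golay.inM24 g3 = true ∧ Golay.valid g3 = true ∧
    Nat.beq (Golay.PermConj.pw g3 3) Golay.idP = true ∧ Nat.beq (Golay.get g3 0) 0 = false := by decide +kernel

/-- The permutation. -/
def gen : Equiv.Perm GolayPt := Golay.permOf g3

theorem gen_mem : gen ∈ M24 := Golay.permOf_mem_M24 g3_checks.1

theorem pw_spec (k : ℕ) : Golay.valid (Golay.PermConj.pw g3 k) = true ∧ Golay.permOf (Golay.PermConj.pw g3 k) = gen ^ k :=
  Golay.PermConj.pw_spec g3_checks.2.1 k

theorem order_gen : orderOf gen = 3 := by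
  haveI : Fact (Nat.Prime 3) := ⟨by norm_num⟩
  refine orderOf_eq_prime ?_ ?_
  · rw [← (pw_spec 3).2, Nat.eq_of_beq_eq_true g3_checks.2.2.1, Golay.permOf_idP]
  · intro e
    have h := congrArg (fun p : Equiv.Perm GolayPt => Golay.idx (p (Golay.pt 0))) e
    simp only [gen, Golay.idx_permOf g3_checks.2.1, Equiv.Perm.one_apply, Golay.idx_pt (by norm_num : 0 < 24)] at h
    have h2 := g3_checks.2.2.2
    rw [h] at h2
    simp at h2

/-- The automorphism. -/
def P0 : Co0 := mono gen_mem empty_code

theorem bas_inL : ∀ k : Fin 12, inL (decV (bas.getD k 0)) = true := by decide +kernel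

/-- The basis. -/
def Bs (k : Fin 12) : leechLattice := mkV (bas.getD k 0) (bas_inL k)

/-- The inverse of the product matrix. -/
def Gi (i j : Fin 12) : ZMod 2 := if (giL.getD i 0).testBit j then 1 else 0

/-- Coordinates from a mask. -/
def bits (m : ℕ) (k : Fin 12) : ZMod 2 := if m.testBit k then 1 else 0

theorem bits_inj {a b : ℕ} (ha : a < 4096) (hb : b < 4096) (h : bits a = bits b) : a = b := by
  refine Nat.eq_of_testBit_eq fun i => ?_
  by_cases hi : i < 12
  · have h2 : bits a ⟨i, hi⟩ = bits b ⟨i, hi⟩ := by rw [h]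
    simp only [bits] at h2
    cases hx : a.testBit i <;> cases hy : b.testBit i <;> simp_all
  · have h2 : (4096 : ℕ) ≤ 2 ^ i := by
      rw [show (4096 : ℕ) = 2 ^ 12 by norm_num]
      exact Nat.pow_le_pow_right (by norm_num) (by omega)
    rw [Nat.testBit_lt_two_pow (by omega), Nat.testBit_lt_two_pow (by omega)]

theorem bits_surj (f : Fin 12 → ZMod 2) : ∃ a < 4096, bits a = f := by
  obtain ⟨a, ha⟩ := ((Fintype.bijective_iff_injective_and_card fun a : Fin 4096 => bits (a : ℕ)).2
    ⟨fun a b h => Fin.ext (bits_inj a.2 b.2 h), by simp⟩).2 f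
  exact ⟨a, a.2, ha⟩

/-- The coordinates of a packed vector. -/
def coX (X : ℕ) (i : Fin 12) : ZMod 2 :=
  ∑ j : Fin 12, Gi i j * ((dotInt (decV X) (decV (bas.getD j 0)) / 8 : ℤ) : ZMod 2)

theorem co_mkV (v : leechLattice) (X : ℕ) (h : (v : Vec) = decV X) : co Bs Gi v = coX X := by
  funext i
  rw [co, h]
  rfl

/-- A packed vector is fixed. -/
def chkFixV (X : ℕ) : Bool :=
  decide (∀ q, decV X (Golay.pt (Golay.get g3 (Golay.idx q))) = decV X q)

theorem gen_apply (q : GolayPt) : gen q = Golay.pt (Golay.get g3 (Golay.idx q)) :=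
  Golay.idx_injective (by
    rw [gen, Golay.idx_permOf g3_checks.2.1,
      Golay.idx_pt ((Golay.valid_iff.mp g3_checks.2.1).2 _ (Golay.idx_lt q))])

theorem fixed_of_chk {X : ℕ} {v : leechLattice} (hv : (v : Vec) = decV X) (h : chkFixV X = true) : Fixed P0 v := by
  rw [chkFixV, decide_eq_true_eq] at h
  unfold Fixed
  have e : P0 • v = v := Subtype.ext (funext fun q => by
    rw [P0, mono_apply, signedPerm, if_neg (Finset.notMem_empty _), hv]
    have h1 := h (gen.symm q)
    rw [← gen_apply, Equiv.apply_symm_apply] at h1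
    exact h1.symm)
  rw [e]

theorem bas_fix : ∀ k : Fin 12, chkFixV (bas.getD k 0) = true := by decide +kernel

theorem gram_check : ∀ i k : Fin 12, coX (bas.getD k 0) i = if i = k then 1 else 0 := by decide +kernel

/-- The powers used for the sums. -/
def pinv (i : ℕ) : ℕ := Golay.PermConj.pw g3 (3 - i)

theorem pinv_spec : ∀ i < 3, ∀ q, Golay.pt (Golay.get (pinv i) (Golay.idx q)) = (gen ^ i).symm q := by
  intro i hi q
  obtain ⟨hv, hp⟩ := pw_spec (3 - i)
  have e : gen ^ (3 - i) = (gen ^ i)⁻¹ := by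
    refine eq_inv_of_mul_eq_one_right ?_
    rw [← pow_add, Nat.add_sub_cancel' hi.le, ← order_gen, pow_orderOf_eq_one]
  refine Golay.idx_injective ?_
  rw [pinv, Golay.idx_pt ((Golay.valid_iff.mp hv).2 _ (Golay.idx_lt q)), ← Golay.idx_permOf hv, hp, e]
  rfl

theorem span_check : ((CoSuz.latGens.zip wit).all fun la => chkSpan 3 12 pinv bas la.1 la.2) = true := by
  decide +kernel

theorem fix : Fix P0 3 Bs Gi where
  odd := rfl
  fix k := fixed_of_chk (X := bas.getD k 0) rfl (bas_fix k)
  gram i k := by rw [co_mkV (Bs k) _ rfl]; exact gram_check i k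
  span := span_of_check gen_mem pinv_spec (fun _ => rfl) (by decide +kernel) span_check

theorem P0_pow : P0 ^ 3 = 1 := by
  rw [P0, mono_pow]
  refine ext_axis fun i => ?_
  rw [mono_axis, if_neg (Finset.notMem_empty _), one_smul,
    show gen ^ 3 = 1 by rw [← order_gen, pow_orderOf_eq_one], Equiv.Perm.one_apply]

theorem axis_fixed (i : GolayPt) : Fixed P0 (axis i) := by
  unfold Fixed
  rw [P0, mono_axis, if_neg (Finset.notMem_empty _)]
  exact Baby.cls_axis _ _

theorem axis_co : co Bs Gi (axis none) = bits ax := by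
  have hb : coX (Golay.pack 24 fun j => if j = 7 then 24 else 16) = bits ax ∧
      decV (Golay.pack 24 fun j => if j = 7 then 24 else 16) = (Pi.single (Golay.pt 7) 8 : Vec) := by decide +kernel
  have e : ((axis (Golay.pt 7) : leechLattice) : Vec) = decV (Golay.pack 24 fun j => if j = 7 then 24 else 16) := by
    rw [hb.2, axis_val]
  rw [co_congr (Baby.cls_axis none (Golay.pt 7)), co_mkV _ _ e, hb.1]

theorem roots_check : inL (decV rootS.2) = true ∧ chkFixV rootS.2 = true ∧ coX rootS.2 = bits rootS.1 ∧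
    sqNorm (decV rootS.2) = 32 ∧ inL (decV rootM.2) = true ∧ chkFixV rootM.2 = true ∧ coX rootM.2 = bits rootM.1 ∧
    sqNorm (decV rootM.2) = 48 := by decide +kernel

end Cfsg.Agent.Spor.Leech.SixFix

end
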