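import Cfsg.Agent.Lib.Spor.Leech.SixFix.Fix
import Cfsg.Agent.Lib.Spor.Leech.CodeLit
import Cfsg.Agent.Lib.Spor.Cos.Act

/-!
Elements of the centraliser of a coordinate permutation of order three with six fixed points, their action on 126
triples of fixed classes and a scalar of order three.
-/

set_option autoImplicit false
set_option maxRecDepth 100000
set_option maxHeartbeats 1000000
set_option Elab.async false

noncomputable section

namespace Cfsg.Agent.Spor.Leech.SixFix

open Cfsg Cfsg.Agent.Spor.Leech.OddFix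
open Cfsg.Agent.Spor.CoSuz (decV HasT)
open Cfsg.Agent.Spor.Cos (of_blocks allBlock force force_eq)
open scoped Pointwise

/-- A packed column. -/
def col (X k : ℕ) : ℕ := (X >>> (12 * k)) % 4096

theorem col_lt (X k : ℕ) : col X k < 4096 := Nat.mod_lt _ (by norm_num)

/-- A combination of packed columns. -/
def mapX (X a : ℕ) : ℕ := force X fun X => force a fun a =>
  ((List.range 12).map fun k => if a.testBit k then col X k else 0).foldr (fun x y => x ^^^ y) 0

theorem mapX_eq (X a : ℕ) : mapX X a =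
    ((List.range 12).map fun k => if a.testBit k then col X k else 0).foldr (fun x y => x ^^^ y) 0 := by
  rw [mapX, force_eq, force_eq]

theorem mapX_lt (X a : ℕ) : mapX X a < 4096 := by
  rw [mapX_eq]
  generalize List.range 12 = L
  induction L with
  | nil => simp
  | cons k L ih =>
    rw [List.map_cons, List.foldr_cons]
    refine Nat.xor_lt_two_pow (n := 12) ?_ ih
    split_ifs
    · exact col_lt X k
    · norm_num

theorem bits_xor (x y : ℕ) (i : Fin 12) : bits (x ^^^ y) i = bits x i + bits y i := by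
  have h2 : (1 : ZMod 2) + 1 = 0 := rfl
  simp only [bits, Nat.testBit_xor]
  cases x.testBit i <;> cases y.testBit i <;> simp [h2]

theorem bits_foldr (L : List ℕ) (i : Fin 12) :
    bits (L.foldr (fun x y => x ^^^ y) 0) i = (L.map fun x => bits x i).sum := by
  induction L with
  | nil => simp [bits]
  | cons x L ih => rw [List.foldr_cons, bits_xor, ih, List.map_cons, List.sum_cons]

/-- The matrix of packed columns. -/
def mat (X : ℕ) : Matrix (Fin 12) (Fin 12) (ZMod 2) := Matrix.of fun i k => bits (col X k) i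

theorem mat_mulVec (X a : ℕ) : (mat X).mulVec (bits a) = bits (mapX X a) := by
  funext i
  show ∑ k, mat X i k * bits a k = _
  rw [mapX_eq, bits_foldr, List.map_map, OddFix.sum_range_map (M := ZMod 2), Finset.sum_range]
  refine Finset.sum_congr rfl fun k _ => ?_
  rw [Function.comp_apply]
  by_cases hk : a.testBit k = true
  · simp [bits, mat, hk]
  · simp [bits, hk]

theorem mulVec_ext {M N : Matrix (Fin 12) (Fin 12) (ZMod 2)} (h : ∀ a < 4096, M.mulVec (bits a) = N.mulVec (bits a)) :
    M = N :=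
  Matrix.ext_of_mulVec_single fun k => by
    obtain ⟨a, ha, e⟩ := bits_surj (Pi.single k 1)
    rw [← e]; exact h a ha

theorem bits_pow_two : ∀ k : Fin 12, bits (2 ^ (k : ℕ)) = Pi.single k 1 := by decide +kernel

theorem mat_col (X : ℕ) {j : ℕ} (hj : j < 12) : (mat X).mulVec (bits (2 ^ j)) = bits (col X j) := by
  rw [show j = ((⟨j, hj⟩ : Fin 12) : ℕ) from rfl, bits_pow_two, Matrix.mulVec_single_one]; rfl

theorem mulVec_ext_basis {M N : Matrix (Fin 12) (Fin 12) (ZMod 2)}
    (h : ∀ k < 12, M.mulVec (bits (2 ^ k)) = N.mulVec (bits (2 ^ k))) : M = N :=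
  Matrix.ext_of_mulVec_single fun k => by rw [← bits_pow_two]; exact h k k.2

/-- The action on the fixed classes. -/
def A (g : Cent P0) : Matrix (Fin 12) (Fin 12) (ZMod 2) :=
  Matrix.of fun i k => co Bs Gi ((g : Co0) • Bs k) i

theorem fixed_smul (g : Cent P0) {v : leechLattice} (hv : Fixed P0 v) : Fixed P0 ((g : Co0) • v) :=
  Fixed.of_comm (mem_Cent.1 g.2) hv

theorem A_mulVec (g : Cent P0) {v : leechLattice} (hv : Fixed P0 v) :
    co Bs Gi ((g : Co0) • v) = (A g).mulVec (co Bs Gi v) := by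
  funext i
  rw [co_congr (congr_smul (g := (g : Co0)) (fix.eq_comb hv))]
  show coHom' Bs Gi ((g : Co0) • comb Bs _) i = ∑ k, A g i k * co Bs Gi v k
  rw [comb, co_sum, map_sum, Finset.sum_apply]
  refine Finset.sum_congr rfl fun k _ => ?_
  have h2 : ∀ a : ZMod 2, a = 0 ∨ a = 1 := by decide
  rcases h2 (co Bs Gi v k) with e | e <;> rw [e]
  · rw [if_neg (by decide), co_zero, map_zero, Pi.zero_apply, mul_zero]
  · rw [if_pos rfl, mul_one]; rfl

theorem A_mul (g h : Cent P0) : A (g * h) = A g * A h := by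
  ext i k
  show co Bs Gi (((g : Co0) * (h : Co0)) • Bs k) i = _
  rw [mul_smul, A_mulVec g (fixed_smul h (fix.fix k))]
  rfl

theorem A_one : A 1 = 1 := by
  ext i k
  show co Bs Gi ((1 : Co0) • Bs k) i = _
  rw [one_smul, fix.gram, Matrix.one_apply]

/-- The classes of a point. -/
def ptm (i : ℕ) : List ℕ := [ptT.at i % 4096, (ptT.at i >>> 12) % 4096, (ptT.at i >>> 24) % 4096]

theorem ptm_lt {i m : ℕ} (h : m ∈ ptm i) : m < 4096 := by
  simp only [ptm, List.mem_cons, List.not_mem_nil, or_false] at h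
  rcases h with rfl | rfl | rfl <;> exact Nat.mod_lt _ (by norm_num)

theorem pt_check : ∀ i < 126, (ptm i).all (fun m => Nat.beq (plocT.at m) i) = true := by decide +kernel

theorem ploc_eq {i : Fin 126} {m : ℕ} (h : m ∈ ptm i) : plocT.at m = i :=
  Nat.eq_of_beq_eq_true (List.all_eq_true.1 (pt_check i i.2) m h)

/-- The automorphism moves the points by the given map. -/
def Maps (g : Cent P0) (f : Fin 126 → Fin 126) : Prop :=
  ∀ i : Fin 126, ∀ m ∈ ptm i, ∃ m' ∈ ptm (f i), (A g).mulVec (bits m) = bits m'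

theorem Maps.mul {g h : Cent P0} {f f' : Fin 126 → Fin 126} (hg : Maps g f) (hh : Maps h f') :
    Maps (g * h) (f ∘ f') := fun i m hm => by
  obtain ⟨m', hm', e⟩ := hh i m hm
  obtain ⟨m'', hm'', e'⟩ := hg (f' i) m' hm'
  exact ⟨m'', hm'', by rw [A_mul, ← Matrix.mulVec_mulVec, e, e']⟩

theorem Maps.one : Maps 1 id := fun i m hm => ⟨m, hm, by rw [A_one, Matrix.one_mulVec]⟩

theorem Maps.congr {g h : Cent P0} {f : Fin 126 → Fin 126} (hg : Maps g f) (e : A g = A h) : Maps h f :=
  fun i m hm => by rw [← e]; exact hg i m hm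

theorem Maps.unique {g : Cent P0} {f f' : Fin 126 → Fin 126} (h : Maps g f) (h' : Maps g f') : f = f' := by
  funext i
  obtain ⟨a, ha, e⟩ := h i (ptT.at i % 4096) List.mem_cons_self
  obtain ⟨b, hb, e'⟩ := h' i (ptT.at i % 4096) List.mem_cons_self
  obtain rfl := bits_inj (ptm_lt ha) (ptm_lt hb) (e.symm.trans e')
  exact Fin.ext ((ploc_eq ha).symm.trans (ploc_eq hb))

/-- The scalar. -/
abbrev Om : Matrix (Fin 12) (Fin 12) (ZMod 2) := mat omC

theorem Om_check : ∀ k < 12, mapX omC (mapX omC (mapX omC (2 ^ k))) = 2 ^ k ∧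
    mapX omC (2 ^ k) = col omC k := by decide +kernel

theorem Om_cube : Om * Om * Om = 1 := mulVec_ext_basis fun k hk => by
  rw [← Matrix.mulVec_mulVec, ← Matrix.mulVec_mulVec, mat_mulVec, mat_mulVec, mat_mulVec, (Om_check k hk).1,
    Matrix.one_mulVec]

/-- The automorphism normalises the scalars. -/
def Semi (g : Cent P0) : Prop := A g * Om = Om * A g ∨ A g * Om = Om * Om * A g

theorem Semi.one : Semi 1 := Or.inl (by rw [A_one, one_mul, mul_one])

theorem Semi.sq {g : Cent P0} (h : A g * Om = Om * Om * A g) : A g * (Om * Om) = Om * A g := by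
  rw [← mul_assoc, h, mul_assoc (Om * Om), h, ← mul_assoc, ← mul_assoc, Om_cube, one_mul]

theorem Semi.mul {g h : Cent P0} (hg : Semi g) (hh : Semi h) : Semi (g * h) := by
  unfold Semi
  rw [A_mul]
  rcases hg with e | e <;> rcases hh with e' | e'
  · left; rw [mul_assoc, e', ← mul_assoc, e, mul_assoc]
  · right
    rw [mul_assoc, e', ← mul_assoc, ← mul_assoc (A g), e, mul_assoc Om, e, ← mul_assoc, mul_assoc]
  · right; rw [mul_assoc, e', ← mul_assoc, e, mul_assoc]
  · left; rw [mul_assoc, e', ← mul_assoc, Semi.sq e, mul_assoc]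

theorem Semi.congr {g h : Cent P0} (hg : Semi g) (e : A g = A h) : Semi h := by
  unfold Semi at *; rwa [← e]

/-- Both properties. -/
def Good (g : Cent P0) : Prop := (∃ f, Maps g f) ∧ Semi g

theorem Good.one : Good 1 := ⟨⟨_, Maps.one⟩, Semi.one⟩

theorem Good.mul {g h : Cent P0} : Good g → Good h → Good (g * h) := fun ⟨⟨_, a⟩, b⟩ ⟨⟨_, c⟩, d⟩ =>
  ⟨⟨_, a.mul c⟩, b.mul d⟩

theorem Good.congr {g h : Cent P0} : Good g → A g = A h → Good h := fun ⟨⟨_, a⟩, b⟩ e =>
  ⟨⟨_, a.congr e⟩, b.congr e⟩

theorem lens : gG.length = 3 ∧ gC.length = 64 := by decide +kernel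

/-- A generating coordinate permutation. -/
def gEnt (k : ℕ) : ℕ × ℕ := gG.getD k (0, 0)

/-- A sign change. -/
def cEnt (k : ℕ) : ℕ × ℕ := gC.getD k (0, 0)

theorem gEnt_mem {k : ℕ} (hk : k < 3) : gEnt k ∈ gG := by
  rw [gEnt, List.getD_eq_getElem _ _ (lens.1 ▸ hk)]
  exact List.getElem_mem _

theorem cEnt_mem {k : ℕ} (hk : k < 64) : cEnt k ∈ gC := by
  rw [cEnt, List.getD_eq_getElem _ _ (lens.2 ▸ hk)]
  exact List.getElem_mem _

/-- The coordinates of a packed vector moved by a signed permutation. -/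
def coI (R m X : ℕ) (i : Fin 12) : ZMod 2 :=
  ∑ j : Fin 12, Gi i j * ((dotI R m X (bas.getD j 0) / 8 : ℤ) : ZMod 2)

/-- The products of the basis modulo two, as packed columns. -/
def gramC : ℕ := 6302915054632042087118765263189816613587632

theorem Gi_gram : Matrix.of Gi * mat gramC = 1 := by decide +kernel

/-- The packed columns of a signed permutation. -/
def chkCols (R m X : ℕ) : Bool :=
  force R fun R => force m fun m => force X fun X =>
    (List.range 12).all fun k => force (bas.getD k 0) fun Y => force (mapX gramC (col X k)) fun d =>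
      (List.range 12).all fun j => force (bas.getD j 0) fun Z =>
        Bool.xor (Int.beq' (dotI R m Y Z / 8 % 2) 0) (d.testBit j)

theorem coI_of_chk {R m X : ℕ} (h : chkCols R m X = true) (i k : Fin 12) :
    coI R m (bas.getD k 0) i = bits (col X k) i := by
  simp only [chkCols, force_eq, List.all_eq_true, List.mem_range] at h
  have hz : ∀ j : Fin 12, ((dotI R m (bas.getD k 0) (bas.getD j 0) / 8 : ℤ) : ZMod 2) = bits (mapX gramC (col X k)) j := by
    intro j
    have h1 := h k k.2 j j.2
    generalize dotI R m (bas.getD k 0) (bas.getD j 0) / 8 = z at h1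
    rw [← ZMod.intCast_mod z 2, bits]
    rcases Int.emod_two_eq_zero_or_one z with e | e <;> rw [Nat.cast_ofNat, e] <;>
      cases hb : (mapX gramC (col X k)).testBit j <;> simp [e, hb, Int.beq'_eq] at h1 ⊢
  have e : ((Matrix.of Gi).mulVec ((mat gramC).mulVec (bits (col X k)))) i = bits (col X k) i := by
    rw [Matrix.mulVec_mulVec, Gi_gram, Matrix.one_mulVec]
  rw [← e, mat_mulVec]
  show ∑ j, _ = ∑ j, Gi i j * bits (mapX gramC (col X k)) j
  exact Finset.sum_congr rfl fun j _ => by rw [← hz j]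

/-- The data of a generating coordinate permutation. -/
def chkG (x : ℕ × ℕ) : Bool :=
  Golay.inM24 x.1 && Nat.beq (Golay.comp x.1 g3) (Golay.comp g3 x.1) &&
    chkCols x.1 0 x.2

/-- The data of a sign change. -/
def chkC (x : ℕ × ℕ) : Bool :=
  Golay.isCode x.1 && Nat.beq (Golay.imgMask (Golay.get g3) x.1) x.1 &&
    chkCols Golay.idP x.1 x.2

theorem gG_check : gG.all chkG = true := by decide +kernel

theorem gC_cover : (codeW.all fun q => force q.1 fun m =>
    ((List.range 24).any fun j => Bool.xor (m.testBit j) (m.testBit (Golay.get g3 j))) ||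
      gC.any fun x => Nat.beq x.1 m) = true := by decide +kernel

theorem cover_code {m : ℕ} (hm : m ∈ Golay.codeList)
    (h : ∀ j < 24, m.testBit j = m.testBit (Golay.get g3 j)) : ∃ k < 64, (cEnt k).1 = m := by
  have h1 := List.all_eq_true.1 gC_cover _ (mem_codeW hm)
  rw [force_eq] at h1
  simp only [Bool.or_eq_true, List.any_eq_true, List.mem_range, Nat.beq_eq] at h1
  rcases h1 with ⟨j, hj, hx⟩ | ⟨x, hx, e⟩
  · rw [h j hj] at hx; simp at hx
  · obtain ⟨k, hk, rfl⟩ := List.getElem_of_mem hx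
    refine ⟨k, lens.2 ▸ hk, ?_⟩
    rw [cEnt, List.getD_eq_getElem _ _ hk]; exact e

theorem pts_zero : Golay.pts 0 = ∅ := by decide +kernel

theorem gC_check : ∀ k < 64, chkC (cEnt k) = true :=
  of_blocks (size := 4) (b := 16) (by decide) (by decide) fun j hj => by interval_cases j <;> decide +kernel

theorem gG_spec {x : ℕ × ℕ} (hx : x ∈ gG) :
    ∃ g : Cent P0, (∃ h : Golay.permOf x.1 ∈ M24, (g : Co0) = mono h empty_code) ∧ A g = mat x.2 := by
  have h := List.all_eq_true.1 gG_check x hx
  simp only [chkG, Bool.and_eq_true, Nat.beq_eq] at h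
  obtain ⟨⟨hM, hC⟩, hcol⟩ := h
  have hπ := Golay.permOf_mem_M24 hM
  have e : Golay.permOf x.1 * Golay.permOf g3 = Golay.permOf g3 * Golay.permOf x.1 := by
    rw [← Golay.permOf_comp (Golay.PermConj.valid_of_inM24 hM) g3_checks.2.1, hC,
      Golay.permOf_comp g3_checks.2.1 (Golay.PermConj.valid_of_inM24 hM)]
  have hc : mono hπ empty_code ∈ Cent P0 := mem_Cent.2 (by
    rw [P0, mono_empty_mul, mono_empty_mul]
    exact ext_axis fun i => by simp only [mono_axis, Finset.notMem_empty, if_false]; rw [gen, e])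
  refine ⟨⟨_, hc⟩, ⟨hπ, rfl⟩, Matrix.ext fun i k => ?_⟩
  show co Bs Gi (mono hπ empty_code • Bs k) i = bits (col x.2 k) i
  rw [← coI_of_chk hcol i k]
  simp only [co, coI, mono_apply]
  refine Finset.sum_congr rfl fun j _ => ?_
  rw [← dot_signed (Golay.PermConj.valid_of_inM24 hM) rfl, pts_zero]
  rfl

theorem gC_spec {k : ℕ} (hk : k < 64) :
    ∃ g : Cent P0, (∃ h : Golay.pts (cEnt k).1 ∈ supports (golayCode : Set (GolayPt → ZMod 2)),
        (g : Co0) = mono (one_mem M24) h) ∧ A g = mat (cEnt k).2 := by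
  have h := gC_check k hk
  simp only [chkC, Bool.and_eq_true, Nat.beq_eq] at h
  obtain ⟨⟨hM, hfx⟩, hcol⟩ := h
  have hcode : Golay.pts (cEnt k).1 ∈ supports (golayCode : Set (GolayPt → ZMod 2)) :=
    Golay.mem_supports.2 ⟨(cEnt k).1, Golay.mem_codeList.2 hM, rfl⟩
  have hsm : gen • Golay.pts (cEnt k).1 = Golay.pts (cEnt k).1 := by
    rw [gen, Golay.permOf_smul_pts g3_checks.2.1, hfx]
  have hc : mono (one_mem M24) hcode ∈ Cent P0 := mem_Cent.2 (by
    obtain ⟨e1, e2⟩ := mono_mul_mono (one_mem M24) gen_mem hcode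
    rw [P0, e1, e2]
    exact ext_axis fun i => by simp only [mono_axis, one_mul, mul_one, hsm])
  refine ⟨⟨_, hc⟩, ⟨hcode, rfl⟩, Matrix.ext fun i k' => ?_⟩
  show co Bs Gi (mono (one_mem M24) hcode • Bs k') i = bits (col (cEnt k).2 k') i
  rw [← coI_of_chk hcol i k']
  simp only [co, coI, mono_apply]
  refine Finset.sum_congr rfl fun j _ => ?_
  rw [← dot_signed Golay.valid_idP Golay.permOf_idP]
  rfl

/-- The data of the further automorphism. -/
def chkRows : Bool :=
  CoSuz.chkT rowsT && decide (CoSuz.mulP (permP g3) rowsT = CoSuz.mulP rowsT (permP g3)) &&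
    decide (∀ k : Fin 12, sqNorm (decV (bas.getD k 0)) ≤ 64 ∧ encV (decV (bas.getD k 0)) = bas.getD k 0) &&
    decide (∀ i k : Fin 12, coX (CoSuz.colP rowsT (bas.getD k 0)) i = bits (col colT k) i)

theorem rows_check : chkRows = true := by decide +kernel

theorem gT_spec : ∃ g : Cent P0, A g = mat colT := by
  have h := rows_check
  simp only [chkRows, Bool.and_eq_true, decide_eq_true_eq] at h
  obtain ⟨⟨⟨hT, hmul⟩, hb⟩, hcol⟩ := h
  have hM : HasT (CoSuz.ofT rowsT) rowsT := CoSuz.hasT_ofT hT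
  have hP : HasT P0 (permP g3) := hasT_perm g3_checks.2.1 gen_mem rfl
  have hc : CoSuz.ofT rowsT ∈ Cent P0 := mem_Cent.2 ((hmul ▸ hP.mul hM).eq (hM.mul hP)).symm
  refine ⟨⟨_, hc⟩, Matrix.ext fun i k => ?_⟩
  show co Bs Gi (CoSuz.ofT rowsT • Bs k) i = bits (col colT k) i
  rw [← hcol i k]
  refine congrFun (co_mkV _ _ ?_) i
  have h6 := hM.app (v := Bs k) (hb k).1
  rw [show ((Bs k : leechLattice) : Vec) = decV (bas.getD k 0) from rfl, (hb k).2] at h6
  rw [h6, CoSuz.decV_encV (small_of_norm (by rw [co_norm]; exact (hb k).1))]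

/-- The columns of the generators used on classes. -/
def genX (k : ℕ) : ℕ := if k < 3 then (gEnt k).2 else if k < 67 then (cEnt (k - 3)).2 else colT

theorem genX_spec (k : ℕ) : ∃ g : Cent P0, A g = mat (genX k) := by
  by_cases h1 : k < 3
  · simp only [genX, if_pos h1]
    obtain ⟨g, -, h⟩ := gG_spec (gEnt_mem h1)
    exact ⟨g, h⟩
  · by_cases h2 : k < 67
    · simp only [genX, if_neg h1, if_pos h2]
      obtain ⟨g, -, h⟩ := gC_spec (k := k - 3) (by omega)
      exact ⟨g, h⟩
    · simp only [genX, if_neg h1, if_neg h2]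
      exact gT_spec

/-- A generator used on classes. -/
def gE (k : ℕ) : Cent P0 := (genX_spec k).choose

theorem A_gE (k : ℕ) : A (gE k) = mat (genX k) := (genX_spec k).choose_spec

/-- The image of a point under a generator. -/
def gimg (k i : ℕ) : ℕ := (genT.at k >>> (8 * i)) % 256

/-- The data of the action of a generator. -/
def chkPt (k : ℕ) : Bool :=
  force (genX k) fun X => (List.range 126).all fun i => force (gimg k i) fun j =>
    Nat.blt j 126 && (ptm i).all fun m => (ptm j).contains (mapX X m)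

theorem gen_pt_check : ∀ k < 68, chkPt k = true :=
  of_blocks (size := 17) (b := 4) (by decide) (by decide) fun j hj => by interval_cases j <;> decide +kernel

/-- The data of the normalising property. -/
def chkSemi (k : ℕ) : Bool :=
  ((List.range 12).all fun j => Nat.beq (mapX (genX k) (col omC j)) (mapX omC (col (genX k) j))) ||
  ((List.range 12).all fun j => Nat.beq (mapX (genX k) (col omC j)) (mapX omC (mapX omC (col (genX k) j))))

theorem gen_semi_check : ∀ k < 68, chkSemi k = true := by decide +kernel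

/-- The map of the points under a generator. -/
def gfn (k : ℕ) (i : Fin 126) : Fin 126 := ⟨gimg k i % 126, Nat.mod_lt _ (by norm_num)⟩

theorem gimg_lt {k i : ℕ} (hk : k < 68) (hi : i < 126) : gimg k i < 126 := by
  have h0 := gen_pt_check k hk
  simp only [chkPt, force_eq] at h0
  have h := List.all_eq_true.1 h0 i (List.mem_range.2 hi)
  rw [Bool.and_eq_true] at h
  exact Nat.le_of_ble_eq_true h.1

theorem gfn_val {k : ℕ} (hk : k < 68) (i : Fin 126) : (gfn k i : ℕ) = gimg k i := Nat.mod_eq_of_lt (gimg_lt hk i.2)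

theorem gE_maps {k : ℕ} (hk : k < 68) : Maps (gE k) (gfn k) := fun i m hm => by
  have h0 := gen_pt_check k hk
  simp only [chkPt, force_eq] at h0
  have h := List.all_eq_true.1 h0 i (List.mem_range.2 i.2)
  rw [Bool.and_eq_true] at h
  have h2 := List.all_eq_true.1 h.2 m hm
  rw [List.contains_iff_mem, ← gfn_val hk] at h2
  exact ⟨_, h2, by rw [A_gE, mat_mulVec]⟩

theorem semi_of_cols {g : Cent P0} {X : ℕ} (h : A g = mat X)
    (hs : (∀ j < 12, mapX X (col omC j) = mapX omC (col X j)) ∨
      ∀ j < 12, mapX X (col omC j) = mapX omC (mapX omC (col X j))) : Semi g := by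
  unfold Semi
  rw [h]
  have e1 := mat_col
  rcases hs with hs | hs
  · refine Or.inl (mulVec_ext_basis fun j hj => ?_)
    rw [← Matrix.mulVec_mulVec, ← Matrix.mulVec_mulVec, e1 _ hj, e1 _ hj, mat_mulVec, mat_mulVec, hs j hj]
  · refine Or.inr (mulVec_ext_basis fun j hj => ?_)
    rw [← Matrix.mulVec_mulVec, ← Matrix.mulVec_mulVec, ← Matrix.mulVec_mulVec, e1 _ hj, e1 _ hj, mat_mulVec,
      mat_mulVec, mat_mulVec, hs j hj]

theorem gE_semi {k : ℕ} (hk : k < 68) : Semi (gE k) := by
  refine semi_of_cols (A_gE k) ?_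
  have h := gen_semi_check k hk
  simp only [chkSemi, Bool.or_eq_true, List.all_eq_true, List.mem_range, Nat.beq_eq] at h
  exact h

theorem gE_good {k : ℕ} (hk : k < 68) : Good (gE k) := ⟨⟨_, gE_maps hk⟩, gE_semi hk⟩

/-- The element of a word. -/
def wE (w : List ℕ) : Cent P0 := (w.map gE).prod

/-- The image of a class under a word. -/
def wCol (w : List ℕ) (a : ℕ) : ℕ := w.foldr (fun k x => mapX (genX k) x) a

/-- The image of a point under a word. -/
def wPt (w : List ℕ) (i : ℕ) : ℕ := w.foldr gimg i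

theorem wE_mulVec (w : List ℕ) (a : ℕ) : (A (wE w)).mulVec (bits a) = bits (wCol w a) := by
  induction w with
  | nil => rw [wE, List.map_nil, List.prod_nil, A_one, Matrix.one_mulVec]; rfl
  | cons k w ih =>
    rw [wE, List.map_cons, List.prod_cons, A_mul, ← Matrix.mulVec_mulVec]
    rw [show A (List.map gE w).prod = A (wE w) from rfl, ih, A_gE, mat_mulVec]
    rfl

theorem wE_maps {w : List ℕ} (hw : ∀ k ∈ w, k < 68) :
    ∃ f, Maps (wE w) f ∧ ∀ i : Fin 126, (f i : ℕ) = wPt w i := by
  induction w with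
  | nil => exact ⟨id, Maps.one, fun _ => rfl⟩
  | cons k w ih =>
    obtain ⟨f, hf, hv⟩ := ih fun j hj => hw j (List.mem_cons_of_mem _ hj)
    refine ⟨gfn k ∘ f, ?_, fun i => ?_⟩
    · rw [wE, List.map_cons, List.prod_cons]
      exact (gE_maps (hw k List.mem_cons_self)).mul hf
    · rw [Function.comp_apply, gfn_val (hw k List.mem_cons_self), hv]
      rfl

end Cfsg.Agent.Spor.Leech.SixFix

end
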