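import Cfsg.Agent.Lib.Spor.Leech.SixFix.Trees
import Cfsg.Agent.Lib.Spor.UFourThree.Points
import Cfsg.Agent.Lib.Fus.UnitTransvection
import Mathlib.GroupTheory.QuotientGroup.Basic

/-!
The centraliser in the rank 24 lattice automorphisms of a coordinate permutation of order three with six fixed points,
modulo that permutation and negation: a scalar of order three, the small unitary group above it, index two.
-/

set_option autoImplicit false
set_option maxRecDepth 100000
set_option maxHeartbeats 1000000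
set_option Elab.async false
set_option linter.style.haveILetI false

noncomputable section

namespace Cfsg.Agent.Spor.Leech.SixFix

open Cfsg Cfsg.Agent.Spor.Leech.OddFix
open Cfsg.Agent.Spor.Cos (of_blocks allBlock force force_eq)
open Cfsg.Agent.Spor.UFourThree (actD G43 gT card_G43 exists_homD)

/-- The action on the points. -/
def fn (g : Cent P0) : Fin 126 → Fin 126 := (all_good g).1.choose

theorem fn_maps (g : Cent P0) : Maps g (fn g) := (all_good g).1.choose_spec

theorem fn_eq {g : Cent P0} {f : Fin 126 → Fin 126} (h : Maps g f) : fn g = f := (fn_maps g).unique h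

theorem fn_mul (g h : Cent P0) : fn (g * h) = fn g ∘ fn h := fn_eq ((fn_maps g).mul (fn_maps h))

theorem fn_one : fn 1 = id := fn_eq Maps.one

/-- The permutation of the points. -/
def pig : Cent P0 →* Equiv.Perm (Fin 126) :=
  MonoidHom.mk' (fun g => ⟨fn g, fn g⁻¹,
    fun i => by rw [← Function.comp_apply (f := fn g⁻¹), ← fn_mul, inv_mul_cancel, fn_one, id],
    fun i => by rw [← Function.comp_apply (f := fn g), ← fn_mul, mul_inv_cancel, fn_one, id]⟩)
    fun g h => Equiv.ext fun i => congrFun (fn_mul g h) i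

theorem pig_eq {g : Cent P0} {f : Fin 126 → Fin 126} (h : Maps g f) (i : Fin 126) : pig g i = f i :=
  congrFun (fn_eq h) i

theorem pig_of_A {g : Cent P0} (h : A g = 1) : pig g = 1 :=
  Equiv.ext fun i => pig_eq (Maps.one.congr (A_one.trans h.symm)) i

/-- The action on the fixed classes as units. -/
def AU : Cent P0 →* (Matrix (Fin 12) (Fin 12) (ZMod 2))ˣ :=
  MonoidHom.toHomUnits ⟨⟨A, A_one⟩, A_mul⟩

/-- The quotient. -/
abbrev K6 : Type := ↥AU.range

/-- The map onto it. -/
def rho : Cent P0 →* K6 := AU.rangeRestrict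

theorem rho_surjective : Function.Surjective rho := AU.rangeRestrict_surjective

theorem rho_eq_iff {g h : Cent P0} : rho g = rho h ↔ A g = A h := by
  rw [Subtype.ext_iff, Units.ext_iff]
  rfl

theorem rho_eq_one {g : Cent P0} : rho g = 1 ↔ A g = 1 := by rw [← map_one rho, rho_eq_iff, A_one]

theorem A_fixes {g : Cent P0} (h : ∀ k, cls ((g : Co0) • Bs k) = cls (Bs k)) : A g = 1 :=
  Matrix.ext fun i k => by
    show co Bs Gi ((g : Co0) • Bs k) i = _
    rw [co_congr (h k), fix.gram, Matrix.one_apply]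

theorem cE_sq_check : ∀ k < 64, (force (cEnt k).2 fun X => (List.range 12).all fun j =>
    Nat.beq (mapX X (col X j)) (2 ^ j)) = true := by decide +kernel

theorem mat_inj {X Y : ℕ} (hX : X < 2 ^ 144) (hY : Y < 2 ^ 144) (h : mat X = mat Y) : X = Y := by
  refine Nat.eq_of_testBit_eq fun i => ?_
  by_cases hi : i < 144
  · have h1 : col X (i / 12) = col Y (i / 12) := by
      refine bits_inj (col_lt _ _) (col_lt _ _) ?_
      rw [← mat_col X (by omega : i / 12 < 12), h, mat_col Y (by omega : i / 12 < 12)]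
    have h2 := congrArg (fun x => x.testBit (i % 12)) h1
    have h3 : i % 12 < 12 := Nat.mod_lt _ (by norm_num)
    simp only [col, show (4096 : ℕ) = 2 ^ 12 by norm_num, Nat.testBit_mod_two_pow, Nat.testBit_shiftRight, h3,
      decide_true, Bool.true_and, Nat.div_add_mod] at h2
    exact h2
  · have h2 : 2 ^ 144 ≤ 2 ^ i := Nat.pow_le_pow_right (by norm_num) (by omega)
    rw [Nat.testBit_lt_two_pow (by omega), Nat.testBit_lt_two_pow (by omega)]

/-- The data of the kernel. -/
def chkKer (i : ℕ) : Bool :=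
  force (rM.at i) fun M => Nat.blt M (2 ^ 144) && (List.range 64).all fun k =>
    !(Nat.beq M (cEnt k).2) || ((List.range 3).any (fun j => Nat.beq (rT.at i) (Golay.PermConj.pw g3 j)) &&
      (Nat.beq (cEnt k).1 0 || Nat.beq (cEnt k).1 16777215))

theorem ker_check : ∀ i < 1080, chkKer i = true :=
  of_blocks (size := 135) (b := 8) (by decide) (by decide) fun j hj => by interval_cases j <;> decide +kernel

theorem cEnt_lt : ∀ k < 64, (cEnt k).2 < 2 ^ 144 := by decide +kernel

theorem rho_ker (g : Cent P0) (hg : rho g = 1) : ∃ i : ℕ, (g : Co0) = P0 ^ i ∨ (g : Co0) = negCo * P0 ^ i := by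
  have hA := rho_eq_one.1 hg
  have hst : (g : Co0) ∈ crossStab := by
    rw [← stabC_eq_crossStab none, mem_stabC]
    exact (fix.co_inj (fixed_smul g (axis_fixed none)) (axis_fixed none)).1 (by
      rw [A_mulVec g (axis_fixed none), hA, Matrix.one_mulVec])
  obtain ⟨a, ha, b, hb, hgab, hval⟩ := exists_stab hst
  obtain ⟨-, -, hAa, -⟩ := rE_spec ha
  obtain ⟨-, hAb, -⟩ := cE_spec hb
  rw [hgab, A_mul, hAa, hAb] at hA
  have hsq : mat (cEnt b).2 * mat (cEnt b).2 = 1 := mulVec_ext_basis fun j hj => by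
    have h1 := cE_sq_check b hb
    simp only [force_eq, List.all_eq_true, List.mem_range, Nat.beq_eq] at h1
    rw [← Matrix.mulVec_mulVec, mat_col _ hj, mat_mulVec, h1 j hj, Matrix.one_mulVec]
  have h2 : mat (rM.at a) = mat (cEnt b).2 := by
    calc mat (rM.at a) = mat (cEnt b).2 * mat (cEnt b).2 * mat (rM.at a) := by rw [hsq, one_mul]
      _ = mat (cEnt b).2 := by rw [mul_assoc, hA, mul_one]
  have h5 := ker_check a ha
  simp only [chkKer, force_eq, Bool.and_eq_true, List.all_eq_true, List.mem_range, Bool.or_eq_true,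
    Bool.not_eq_true', List.any_eq_true, Nat.beq_eq] at h5
  obtain ⟨hM, h6⟩ := h5
  have h3 := mat_inj (Nat.le_of_ble_eq_true hM) (cEnt_lt b hb) h2
  rcases h6 b hb with h7 | ⟨⟨k, -, hk⟩, hm0⟩
  · rw [h3] at h7
    simp at h7
  refine ⟨k, ?_⟩
  have hp : Golay.permOf (rT.at a) = gen ^ k := by rw [hk, (pw_spec k).2]
  rw [show P0 ^ k = mono (pow_mem gen_mem k) empty_code from mono_pow _ k]
  rcases hm0 with hm0 | hm0
  · left
    refine ext_axis fun q => Subtype.ext ?_
    rw [hval, hm0, hp, mono_apply, pts_zero]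
  · right
    refine ext_axis fun q => Subtype.ext ?_
    rw [hval, hm0, hp, mul_smul, negCo_apply, AddSubgroup.coe_neg, mono_apply,
      show Golay.pts 16777215 = Finset.univ by decide +kernel]
    funext r
    simp [signedPerm]

theorem P0_mem : P0 ∈ Cent P0 := mem_Cent.2 rfl

theorem negCo_mem : negCo ∈ Cent P0 := mem_Cent.2 (negCo_comm P0).symm

theorem rho_gen (h : P0 ∈ Cent P0) : rho ⟨P0, h⟩ = 1 := rho_eq_one.2 (A_fixes fun k => fix.fix k)

theorem rho_neg (h : negCo ∈ Cent P0) : rho ⟨negCo, h⟩ = 1 := rho_eq_one.2 (A_fixes fun k => by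
  show cls (negCo • Bs k) = _
  rw [negCo_apply]; exact Baby.cls_neg _)

theorem orderOf_P0 : orderOf P0 = 3 := by
  haveI : Fact (Nat.Prime 3) := ⟨Nat.prime_three⟩
  refine orderOf_eq_prime P0_pow fun e => ?_
  have h := (mono_inj _ _ _ _ (e.trans (by
    refine ext_axis fun q => ?_
    rw [one_smul, mono_axis, if_neg (Finset.notMem_empty _), Equiv.Perm.one_apply] :
      (1 : Co0) = mono (one_mem M24) empty_code))).1
  have := order_gen
  rw [h, orderOf_one] at this
  omega

theorem orderOf_negCo : orderOf negCo = 2 := by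
  haveI : Fact (Nat.Prime 2) := ⟨Nat.prime_two⟩
  refine orderOf_eq_prime (by rw [pow_two, negCo_sq]) fun e => ?_
  have h1 : (((axis none : leechLattice)) : Vec) none = 8 := by rw [axis_val]; simp
  have h2 : (-(axis none) : leechLattice) = axis none := by rw [← negCo_apply, e, one_smul]
  have h3 := congrArg (fun v : leechLattice => (v : Vec) none) h2
  simp only [AddSubgroup.coe_neg, Pi.neg_apply, h1] at h3
  omega

theorem finite_cent : Finite (Cent P0) :=
  Finite.of_surjective (fun x : Fin 1701 × Fin 1080 × Fin 64 => tE x.1 * (cE x.2.2 * rE x.2.1)) fun g => by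
    obtain ⟨i, hi, a, ha, k, hk, e, -⟩ := decomp g
    exact ⟨(⟨i, hi⟩, ⟨a, ha⟩, ⟨k, hk⟩), e.symm⟩

theorem card_K6_le : Nat.card K6 ≤ 19595520 := by
  haveI := finite_cent
  have hk : 6 ∣ Nat.card rho.ker := by
    have h3 : orderOf (⟨P0, P0_mem⟩ : Cent P0) = 3 := by rw [← Subgroup.orderOf_coe]; exact orderOf_P0
    have h2 : orderOf (⟨negCo, negCo_mem⟩ : Cent P0) = 2 := by rw [← Subgroup.orderOf_coe]; exact orderOf_negCo
    have d3 := Subgroup.orderOf_dvd_natCard rho.ker (MonoidHom.mem_ker.2 (rho_gen P0_mem))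
    have d2 := Subgroup.orderOf_dvd_natCard rho.ker (MonoidHom.mem_ker.2 (rho_neg negCo_mem))
    rw [h3] at d3
    rw [h2] at d2
    exact (by norm_num : Nat.Coprime 2 3).mul_dvd_of_dvd_of_dvd d2 d3
  have hpos : 0 < Nat.card rho.ker := Nat.card_pos
  have h6 := Nat.le_of_dvd hpos hk
  have h := card_cent_le
  rw [Subgroup.card_eq_card_quotient_mul_card_subgroup rho.ker,
    Nat.card_congr (QuotientGroup.quotientKerEquivOfSurjective rho rho_surjective).toEquiv] at h
  have := Nat.mul_le_mul_left (Nat.card K6) h6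
  omega

theorem om_check : ∀ j < 12, wCol omW (2 ^ j) = col omC j := by decide +kernel

theorem A_om : A (wE omW) = Om := mulVec_ext_basis fun j hj => by rw [wE_mulVec, om_check j hj, mat_col _ hj]

/-- The scalar in the quotient. -/
def om : K6 := rho (wE omW)

theorem Om_sq_ne : Om * Om ≠ Om := fun h => by
  have h1 := congrArg (fun M => M.mulVec (bits (2 ^ 0))) h
  simp only [← Matrix.mulVec_mulVec, mat_col omC (by norm_num : 0 < 12), mat_mulVec] at h1
  exact absurd (bits_inj (mapX_lt _ _) (col_lt _ _) h1) (by decide +kernel)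

theorem om_cube : om * om * om = 1 := by
  rw [om, ← map_mul, ← map_mul, rho_eq_one, A_mul, A_mul, A_om, Om_cube]

theorem om_ne : om ≠ 1 := fun h => Om_sq_ne (by
  have h1 : Om = 1 := A_om ▸ rho_eq_one.1 h
  rw [h1, mul_one])

theorem order_om : orderOf om = 3 := by
  haveI : Fact (Nat.Prime 3) := ⟨Nat.prime_three⟩
  exact orderOf_eq_prime (by rw [pow_succ, pow_two]; exact om_cube) om_ne

/-- The centraliser of the scalar. -/
def K0 : Subgroup K6 := Subgroup.centralizer {om}

theorem mem_K0 {g : Cent P0} : rho g ∈ K0 ↔ A g * Om = Om * A g := by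
  rw [K0, Subgroup.mem_centralizer_singleton_iff, om, ← map_mul, ← map_mul, rho_eq_iff, A_mul, A_mul, A_om]

theorem out_check : outK < 68 ∧ ∀ j < 12, mapX (genX outK) (col omC j) = mapX omC (mapX omC (col (genX outK) j)) := by
  decide +kernel

theorem A_out : A (gE outK) * Om = Om * Om * A (gE outK) := mulVec_ext_basis fun j hj => by
  rw [A_gE, ← Matrix.mulVec_mulVec, ← Matrix.mulVec_mulVec, ← Matrix.mulVec_mulVec, mat_col _ hj, mat_col _ hj,
    mat_mulVec, mat_mulVec, mat_mulVec, out_check.2 j hj]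

theorem not_both {g : Cent P0} (h : A g * Om = Om * Om * A g) : ¬ A g * Om = Om * A g := fun h' => Om_sq_ne (by
  have h1 : Om * Om * (A g * A g⁻¹) = Om * (A g * A g⁻¹) := by rw [← mul_assoc, ← mul_assoc Om (A g), ← h, h']
  rwa [← A_mul, mul_inv_cancel, A_one, mul_one, mul_one] at h1)

theorem index_K0 : K0.index = 2 := by
  rw [Subgroup.index_eq_two_iff]
  refine ⟨rho (gE outK), fun x => ?_⟩
  obtain ⟨g, rfl⟩ := rho_surjective x
  rw [← map_mul, mem_K0, mem_K0]
  rcases (all_good g).2 with e | e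
  · refine Or.inr ⟨e, not_both ?_⟩
    rw [A_mul, mul_assoc, A_out, ← mul_assoc, ← mul_assoc (A g), e, mul_assoc Om, e, ← mul_assoc, mul_assoc]
  · refine Or.inl ⟨?_, not_both e⟩
    rw [A_mul, mul_assoc, A_out, ← mul_assoc, Semi.sq e, mul_assoc]

theorem K0_normal : K0.Normal := Subgroup.normal_of_index_eq_two index_K0

theorem om_mem : om ∈ K0 := mem_K0.2 (by rw [A_om])

theorem zp_normal : (Subgroup.zpowers om).Normal := by
  refine ⟨fun n hn x => ?_⟩
  obtain ⟨j, rfl⟩ := Subgroup.mem_zpowers_iff.1 hn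
  rw [← conj_zpow]
  refine zpow_mem ?_ _
  obtain ⟨g, rfl⟩ := rho_surjective x
  rcases (all_good g).2 with e | e
  · refine Subgroup.mem_zpowers_iff.2 ⟨1, ?_⟩
    rw [zpow_one, eq_mul_inv_iff_mul_eq, om, ← map_mul, ← map_mul, rho_eq_iff, A_mul, A_mul, A_om, e]
  · refine Subgroup.mem_zpowers_iff.2 ⟨2, ?_⟩
    rw [zpow_two, eq_mul_inv_iff_mul_eq, om, ← map_mul, ← map_mul, ← map_mul, rho_eq_iff, A_mul, A_mul, A_mul,
      A_om, e]

theorem piK_ker : rho.ker ≤ pig.ker := fun _ h =>
  MonoidHom.mem_ker.2 (pig_of_A (rho_eq_one.1 (MonoidHom.mem_ker.1 h)))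

/-- The action of the quotient on the points. -/
def piK : K6 →* Equiv.Perm (Fin 126) := rho.liftOfSurjective rho_surjective ⟨pig, piK_ker⟩

theorem piK_rho (g : Cent P0) : piK (rho g) = pig g := MonoidHom.liftOfRightInverse_comp_apply ..

/-- The action of the centraliser of the scalar. -/
def pi0 : K0 →* Equiv.Perm (Fin 126) := piK.comp K0.subtype

theorem omW_check : (∀ k ∈ omW, k < 68) ∧ ∀ i < 126, wPt omW i = i := by decide +kernel

theorem pi0_om : pi0 ⟨om, om_mem⟩ = 1 := by
  show piK (rho (wE omW)) = 1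
  rw [piK_rho]
  obtain ⟨f, hf, hv⟩ := wE_maps omW_check.1
  refine Equiv.ext fun i => Fin.ext ?_
  rw [pig_eq hf, hv, omW_check.2 i i.2, Equiv.Perm.one_apply]

theorem th_check : ∀ s < 3, (∀ k ∈ thW.getD s [], k < 68) ∧
    (∀ j < 12, wCol (thW.getD s []) (col omC j) = mapX omC (wCol (thW.getD s []) (2 ^ j))) ∧
    ∀ i < 126, wPt (thW.getD s []) i = actD.im i s := by decide +kernel

theorem theta_moves : actD.im 0 0 ≠ 0 := by decide +kernel

theorem exists_theta : ∃ θ : G43 →* Equiv.Perm (Fin 126), Function.Injective θ ∧ θ.range ≤ pi0.range := by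
  obtain ⟨θ, hθ⟩ : ∃ θ : G43 →* Equiv.Perm (Fin actD.N), actD.Hom gT θ := exists_homD
  refine ⟨θ, ?_, ?_⟩
  · haveI : IsSimpleGroup G43 :=
      Fus.UnitTv.isSimpleGroup_psu UFourThree.K9.card_eq (by norm_num) (by norm_num)
    have hn : (θ.ker).Normal := MonoidHom.normal_ker θ
    rcases hn.eq_bot_or_eq_top with h | h
    · exact (MonoidHom.ker_eq_bot_iff θ).1 h
    · exfalso
      have h1 : θ (gT 0) = 1 := MonoidHom.mem_ker.1 (h ▸ Subgroup.mem_top _)
      rw [hθ.gen] at h1
      have h2 := congrArg (fun π : Equiv.Perm (Fin actD.N) => ((π ⟨0, by decide⟩ : Fin actD.N) : ℕ)) h1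
      simp only [Equiv.Perm.one_apply, actD.perm_apply hθ.inv (s := 0) (by decide)] at h2
      exact theta_moves h2
  · have key : Subgroup.closure {x | ∃ s < 3, gT s = x} ≤ pi0.range.comap (θ : G43 →* Equiv.Perm (Fin 126)) := by
      rw [Subgroup.closure_le]
      rintro _ ⟨s, hs, rfl⟩
      obtain ⟨hw, hl, hp⟩ := th_check s hs
      have hmem : rho (wE (thW.getD s [])) ∈ K0 := mem_K0.2 (mulVec_ext_basis fun j hj => by
        rw [← Matrix.mulVec_mulVec, ← Matrix.mulVec_mulVec, mat_col _ hj, wE_mulVec, wE_mulVec, mat_mulVec, hl j hj])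
      refine ⟨⟨_, hmem⟩, ?_⟩
      show piK (rho _) = θ (gT s)
      rw [piK_rho]
      obtain ⟨f, hf, hv⟩ := wE_maps hw
      refine (Equiv.ext fun i => Fin.ext ?_ : pig (wE (thW.getD s [])) = actD.perm s).trans (hθ.gen s).symm
      exact ((congrArg Fin.val (pig_eq hf i)).trans ((hv i).trans (hp i i.2))).trans
        (actD.perm_apply hθ.inv (show s < actD.n from hs) i).symm
    rintro _ ⟨x, rfl⟩
    exact key (UFourThree.gen ▸ Subgroup.mem_top x)

theorem finite_K6 : Finite K6 := haveI := finite_cent; Finite.of_surjective rho rho_surjective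

theorem pi0_facts : pi0.ker = (Subgroup.zpowers om).subgroupOf K0 ∧
    ∃ θ : G43 →* Equiv.Perm (Fin 126), Function.Injective θ ∧ θ.range = pi0.range := by
  haveI := finite_K6
  obtain ⟨θ, hθ, hle⟩ := exists_theta
  have hzk : Subgroup.zpowers om ≤ K0 := Subgroup.zpowers_le.2 om_mem
  have hker : (Subgroup.zpowers om).subgroupOf K0 ≤ pi0.ker := by
    intro x hx
    obtain ⟨j, hj⟩ := Subgroup.mem_zpowers_iff.1 (Subgroup.mem_subgroupOf.1 hx)
    have e : x = (⟨om, om_mem⟩ : K0) ^ j := Subtype.ext (by rw [SubgroupClass.coe_zpow, hj])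
    rw [MonoidHom.mem_ker, e, map_zpow, pi0_om, one_zpow]
  have hc3 : Nat.card ((Subgroup.zpowers om).subgroupOf K0) = 3 := by
    rw [Nat.card_congr (Subgroup.subgroupOfEquivOfLe hzk).toEquiv, Nat.card_zpowers, order_om]
  have hθc : Nat.card θ.range = 3265920 := by
    rw [← Nat.card_congr (MonoidHom.ofInjective hθ).toEquiv, card_G43]
  have h0 := Subgroup.card_eq_card_quotient_mul_card_subgroup pi0.ker
  rw [Nat.card_congr (QuotientGroup.quotientKerEquivRange pi0).toEquiv] at h0
  have hK := K0.card_mul_index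
  rw [index_K0] at hK
  have h1 := card_K6_le
  have h2 : 3265920 ≤ Nat.card pi0.range := hθc ▸ Subgroup.card_le_of_le hle
  have h3 : 3 ≤ Nat.card pi0.ker := hc3 ▸ Subgroup.card_le_of_le hker
  have h4 : Nat.card pi0.range * 3 ≤ Nat.card pi0.range * Nat.card pi0.ker := Nat.mul_le_mul_left _ h3
  have h5 : 3265920 * Nat.card pi0.ker ≤ Nat.card pi0.range * Nat.card pi0.ker := Nat.mul_le_mul_right _ h2
  exact ⟨(Subgroup.eq_of_le_of_card_ge hker (by omega)).symm, θ, hθ, Subgroup.eq_of_le_of_card_ge hle (by omega)⟩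

/-- The section between the scalar and its centraliser. -/
theorem nonempty_iso : haveI := zp_normal; Nonempty (K0 ⧸ (Subgroup.zpowers om).subgroupOf K0 ≃* G43) := by
  haveI := zp_normal
  obtain ⟨hker, θ, hθ, hrange⟩ := pi0_facts
  exact ⟨(QuotientGroup.quotientMulEquivOfEq hker.symm).trans ((QuotientGroup.quotientKerEquivRange pi0).trans
    ((MulEquiv.subgroupCongr hrange.symm).trans (MonoidHom.ofInjective hθ).symm))⟩

theorem core (N : Subgroup K6) (hN : N.Normal) (hp : IsPGroup 2 N) : N = ⊥ := by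
  haveI := finite_K6
  haveI : Fact (Nat.Prime 2) := ⟨Nat.prime_two⟩
  haveI := zp_normal
  obtain ⟨hker, θ, hθ, hrange⟩ := pi0_facts
  haveI : IsSimpleGroup G43 :=
    Fus.UnitTv.isSimpleGroup_psu UFourThree.K9.card_eq (by norm_num) (by norm_num)
  have hdisj : ∀ y ∈ N, y ∈ Subgroup.zpowers om → y = 1 := fun y hy hz => by
    obtain ⟨k, hk⟩ := hp ⟨y, hy⟩
    have hk' : y ^ 2 ^ k = 1 := congrArg Subtype.val hk
    have h3 : orderOf y ∣ 3 := by
      have := Subgroup.orderOf_dvd_natCard _ hz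
      rwa [Nat.card_zpowers, order_om] at this
    have h2 := orderOf_dvd_of_pow_eq_one hk'
    have hc : Nat.Coprime (2 ^ k) 3 := Nat.Coprime.pow_left _ (by norm_num)
    exact orderOf_eq_one_iff.1 (Nat.dvd_one.1 (hc ▸ Nat.dvd_gcd h2 h3))
  have hN0 : ∀ y ∈ N, y ∈ K0 → y = 1 := fun y hy hy0 => by
    let M : Subgroup G43 := (((N.subgroupOf K0).map pi0.rangeRestrict).map
      ((MulEquiv.subgroupCongr hrange.symm).trans (MonoidHom.ofInjective hθ).symm).toMonoidHom)
    have hNn : (N.subgroupOf K0).Normal := hN.subgroupOf K0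
    have hMn : M.Normal := (hNn.map _ pi0.rangeRestrict_surjective).map _
      (MulEquiv.surjective _)
    have hMp : IsPGroup 2 M := ((hp.comap_of_injective K0.subtype K0.subtype_injective).map _).map _
    rcases hMn.eq_bot_or_eq_top with h | h
    · have hmem : ((MulEquiv.subgroupCongr hrange.symm).trans (MonoidHom.ofInjective hθ).symm)
          (pi0.rangeRestrict ⟨y, hy0⟩) ∈ M :=
        Subgroup.mem_map_of_mem _ (Subgroup.mem_map_of_mem _ (Subgroup.mem_subgroupOf.2 hy))
      rw [h, Subgroup.mem_bot, MulEquiv.map_eq_one_iff] at hmem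
      have h1 : (⟨y, hy0⟩ : K0) ∈ pi0.ker := by
        rw [MonoidHom.mem_ker]; exact congrArg Subtype.val hmem
      rw [hker] at h1
      exact hdisj y hy (Subgroup.mem_subgroupOf.1 h1)
    · exfalso
      obtain ⟨k, hk⟩ := hMp.exists_card_eq
      rw [h, Subgroup.card_top, card_G43] at hk
      have h5 : 5 ∣ 2 ^ k := hk ▸ by norm_num
      exact absurd (Nat.Prime.dvd_of_dvd_pow (by norm_num) h5) (by norm_num)
  refine (Subgroup.eq_bot_iff_forall _).2 fun y hy => hN0 y hy ?_
  have h1 : y * om * y⁻¹ * om⁻¹ ∈ N := by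
    rw [show y * om * y⁻¹ * om⁻¹ = y * (om * y⁻¹ * om⁻¹) by group]
    exact mul_mem hy (hN.conj_mem _ (inv_mem hy) om)
  have h2 : y * om * y⁻¹ * om⁻¹ ∈ Subgroup.zpowers om :=
    mul_mem (zp_normal.conj_mem _ (Subgroup.mem_zpowers om) y) (inv_mem (Subgroup.mem_zpowers om))
  have h3 := hdisj _ h1 h2
  rw [K0, Subgroup.mem_centralizer_singleton_iff]
  rwa [mul_inv_eq_one, mul_inv_eq_iff_eq_mul] at h3

theorem quot : Quot P0 Bs rho where
  surj := rho_surjective
  gen := rho_gen
  neg := rho_neg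
  ker := rho_ker
  faith _ h := rho_eq_one.2 (A_fixes h)
  core := core

end Cfsg.Agent.Spor.Leech.SixFix

end
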