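import Cfsg.Agent.Lib.Spor.Leech.OddFix.Joint
import Cfsg.Agent.Lib.Spor.Leech.OddFix.Fusion
import Cfsg.Agent.Lib.Spor.Leech.SixFix.Quot
import Cfsg.Agent.Lib.Spor.Leech.ThreeFix.Thompson

/-!
In a group of Monster type the centraliser of an element of order three fixing two centres and central in a Sylow
subgroup of their joint centraliser is, modulo that element, a group of large Fischer type.
-/

set_option autoImplicit false
set_option maxRecDepth 100000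
set_option linter.style.haveILetI false

noncomputable section

namespace Cfsg.Agent.Spor.Leech.SixFix

open Cfsg Cfsg.Agent.Spor.Leech.OddFix
open Cfsg.Agent.Spor.UFourThree (G43 K9)

theorem g3_fix : Golay.pop (Golay.Census.fixMask g3) = 6 := by decide +kernel

theorem fix_gen : (Finset.univ.filter fun q => gen q = q).card = 6 :=
  (Golay.Census.fix_card g3_checks.2.1).trans g3_fix

theorem conj_gen {σ : Equiv.Perm GolayPt} (hσ : σ ∈ M24) (ho : orderOf σ = 3)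
    (hfix : (Finset.univ.filter fun p => σ p = p).card ≠ 0) : ∃ π ∈ M24, π * σ * π⁻¹ = gen := by
  obtain ⟨k, hk, hc⟩ := Golay.Census.three_classes hσ ho
  obtain ⟨l, hl, hd⟩ := Golay.Census.three_classes gen_mem order_gen
  rcases hc with ⟨-, hc⟩ | ⟨hc, -⟩
  swap
  · exact absurd hc hfix
  rcases hd with ⟨-, hd⟩ | ⟨hd, -⟩
  swap
  · rw [fix_gen] at hd; omega
  refine ⟨l⁻¹ * k, mul_mem (inv_mem hl) hk, ?_⟩
  calc l⁻¹ * k * σ * (l⁻¹ * k)⁻¹ = l⁻¹ * (k * σ * k⁻¹) * l := by group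
    _ = l⁻¹ * (l * gen * l⁻¹) * l := by rw [hc, hd]
    _ = gen := by group

theorem exists_norm (i : ℕ) (hi : ¬ 3 ∣ i) : ∃ g : Co0, g * P0 * g⁻¹ = P0 ^ i := by
  have hred : P0 ^ i = P0 ^ (i % 3) := by
    conv_lhs => rw [← Nat.mod_add_div i 3]
    rw [pow_add, pow_mul, P0_pow, one_pow, mul_one]
  rw [hred]
  have h3 : i % 3 = 1 ∨ i % 3 = 2 := by omega
  rcases h3 with h | h <;> rw [h]
  · exact ⟨1, by simp⟩
  · have hg2 : gen ^ 2 = gen⁻¹ := eq_inv_of_mul_eq_one_left (by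
      rw [← pow_succ]; show gen ^ 3 = 1; rw [← order_gen, pow_orderOf_eq_one])
    obtain ⟨π, hπ, hc⟩ := conj_gen (pow_mem gen_mem 2) (by rw [hg2, orderOf_inv, order_gen]) (by
      rw [hg2, show (Finset.univ.filter fun q => gen⁻¹ q = q) = Finset.univ.filter fun q => gen q = q from
        Finset.filter_congr fun q _ => by rw [Equiv.Perm.inv_eq_iff_eq]; exact eq_comm, fix_gen]
      norm_num)
    refine ⟨mono (inv_mem hπ) empty_code, mul_inv_eq_iff_eq_mul.2 ?_⟩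
    rw [P0, mono_pow, mono_empty_mul, mono_empty_mul]
    refine ext_axis fun k => ?_
    have e : π⁻¹ * gen = gen ^ 2 * π⁻¹ := by
      rw [eq_mul_inv_iff_mul_eq, mul_assoc, inv_mul_eq_iff_eq_mul]
      exact (mul_inv_eq_iff_eq_mul.1 hc).symm
    simp only [mono_axis, Finset.notMem_empty, if_false, e]

variable {G : Type*} [Group G] [Finite G] {z : G} {Q : Subgroup (Subgroup.centralizer ({z} : Set G))} [Q.Normal]
  {e : (Subgroup.centralizer ({z} : Set G)) ⧸ Q ≃* Cfsg.Spor.Co1} {ψ : leechLattice → Q ⧸ Subgroup.center Q}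
  {b s : G}

theorem large (S : Setup z Q e ψ 3 P0 Bs Gi b s none) [(NT b).Normal]
    (hswap : ∃ h : G, h * z * h⁻¹ = s ∧ h * b * h⁻¹ ∈ Subgroup.zpowers b) :
    Cfsg.IsOfLargeFischerType (CB b ⧸ NT b) := by
  haveI := S.R_normal
  haveI := zp_normal
  haveI := K0_normal
  let N : Subgroup S.Dz := (Subgroup.zpowers om).comap (S.Phi quot)
  let M : Subgroup S.Dz := K0.comap (S.Phi quot)
  have hzk : Subgroup.zpowers om ≤ K0 := Subgroup.zpowers_le.2 om_mem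
  refine ⟨S.zb, S.R, inferInstance, S.setting quot hswap exists_norm (by norm_num) (by norm_num), N, M,
    (zp_normal).comap _, K0_normal.comap _, ?_, Subgroup.comap_mono hzk, ?_, ?_, ?_⟩
  · exact (S.ker_Phi quot).symm.le.trans (Subgroup.ker_le_comap _ _)
  · rw [card_eq_ker_mul_map (S.Phi quot) N, inf_eq_right.2 (Subgroup.ker_le_comap _ _),
      Subgroup.map_comap_eq_self_of_surjective (S.Phi_surjective quot), S.ker_Phi quot, Nat.card_zpowers, order_om,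
      Nat.mul_comm]
  · refine ⟨K9, inferInstance, inferInstance, K9.card_eq, ?_⟩
    obtain ⟨η⟩ := nonempty_iso
    let f : M →* K0 ⧸ (Subgroup.zpowers om).subgroupOf K0 :=
      (QuotientGroup.mk' _).comp ((S.Phi quot).subgroupComap K0)
    have hf : Function.Surjective f := (QuotientGroup.mk'_surjective _).comp
      (MonoidHom.subgroupComap_surjective_of_surjective _ K0 (S.Phi_surjective quot))
    have hker : f.ker = N.subgroupOf M := by
      ext x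
      rw [MonoidHom.mem_ker, MonoidHom.comp_apply, QuotientGroup.mk'_apply, QuotientGroup.eq_one_iff,
        Subgroup.mem_subgroupOf, Subgroup.mem_subgroupOf]
      rfl
    exact ⟨((QuotientGroup.quotientMulEquivOfEq hker.symm).trans
      (QuotientGroup.quotientKerEquivOfSurjective f hf)).trans η⟩
  · show (K0.comap (S.Phi quot)).index = 2
    rw [Subgroup.index_comap_of_surjective _ (S.Phi_surjective quot), index_K0]

/-- A central element of order three of the joint centraliser has fixed points. -/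
theorem fix_some (h : MT z Q e ψ) (hr : Rep ψ (axis none) s) (hsQ : s ∈ QG Q) (hs : IsConj z s) (hs1 : s ≠ z)
    (x : JC z s) (ho : orderOf x = 3) (hC : Central z s (x : G)) :
    orderOf (jperm h hr x) = 3 ∧
      (Finset.univ.filter fun p => ((jperm h hr x : ↥M24) : Equiv.Perm GolayPt) p = p).card ≠ 0 := by
  haveI : Fact (Nat.Prime 3) := ⟨Nat.prime_three⟩
  obtain ⟨k, hk⟩ := card_ker h hr hsQ hs hs1
  have hc2 : Nat.Coprime (2 ^ k) 27 := Nat.Coprime.pow_left k (by norm_num)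
  have hx3 : x ^ 3 = 1 := by rw [← ho, pow_orderOf_eq_one]
  have hne : jperm h hr x ≠ 1 := fun e' => by
    have hd := Subgroup.orderOf_dvd_natCard _ (MonoidHom.mem_ker.2 e')
    rw [ho, hk] at hd
    have := (Nat.prime_dvd_prime_iff_eq Nat.prime_three Nat.prime_two).1 (Nat.prime_three.dvd_of_dvd_pow hd)
    omega
  have hord : orderOf (jperm h hr x) = 3 := orderOf_eq_prime (by rw [← map_pow, hx3, map_one]) hne
  refine ⟨hord, fun h0 => ?_⟩
  obtain ⟨P, hP, hcard, hxP, hcomm⟩ := hC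
  obtain ⟨π, hπ, hconj⟩ := ThreeFix.conj_gen (jperm h hr x).2 (by rw [Subgroup.orderOf_coe, hord]) h0
  let π' : ↥M24 := ⟨π, hπ⟩
  let P' : Subgroup ↥(JC z s) := P.subgroupOf (JC z s)
  have hP' : Nat.card P' = 27 := by rw [Nat.card_congr (Subgroup.subgroupOfEquivOfLe hP).toEquiv, hcard]
  have hcardI : Nat.card (P'.map (jperm h hr)) = 27 := by
    have h1 := card_eq_ker_mul_map (jperm h hr) P'
    have hd1 := Subgroup.card_dvd_of_le (inf_le_left : P' ⊓ (jperm h hr).ker ≤ P')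
    have hd2 := Subgroup.card_dvd_of_le (inf_le_right : P' ⊓ (jperm h hr).ker ≤ (jperm h hr).ker)
    rw [hP'] at hd1 h1
    rw [hk] at hd2
    have h3 : Nat.card ↥(P' ⊓ (jperm h hr).ker) = 1 :=
      Nat.dvd_one.1 (hc2 ▸ Nat.dvd_gcd hd2 hd1)
    rw [h3, one_mul] at h1
    exact h1.symm
  have hle : (P'.map (jperm h hr)).map (MulAut.conj π').toMonoidHom ≤
      Subgroup.centralizer ({⟨ThreeFix.gen, ThreeFix.gen_mem⟩} : Set ↥M24) := by
    rintro _ ⟨_, ⟨y, hy, rfl⟩, rfl⟩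
    rw [Subgroup.mem_centralizer_singleton_iff,
      show (⟨ThreeFix.gen, ThreeFix.gen_mem⟩ : ↥M24) = π' * jperm h hr x * π'⁻¹ from Subtype.ext hconj.symm]
    show π' * jperm h hr y * π'⁻¹ * (π' * jperm h hr x * π'⁻¹) =
      π' * jperm h hr x * π'⁻¹ * (π' * jperm h hr y * π'⁻¹)
    have e1 : y * x = x * y := Subtype.ext (hcomm _ (Subgroup.mem_subgroupOf.1 hy))
    calc π' * jperm h hr y * π'⁻¹ * (π' * jperm h hr x * π'⁻¹) = π' * jperm h hr (y * x) * π'⁻¹ := by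
          rw [map_mul]; group
      _ = _ := by rw [e1, map_mul]; group
  have h4 := Subgroup.card_dvd_of_le hle
  rw [Subgroup.card_map_of_injective (MulAut.conj π').injective, hcardI, ThreeFix.card_cent] at h4
  norm_num at h4

/-- An element exchanging the two centres and normalising their joint centraliser. -/
theorem exists_flip (h : MT z Q e ψ) (hsQ : s ∈ QG Q) (hs : IsConj z s) (hs1 : s ≠ z) :
    ∃ g₀ : G, (∀ x, x ∈ JC z s → g₀ * x * g₀⁻¹ ∈ JC z s) ∧ g₀ * z * g₀⁻¹ = s := by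
  obtain ⟨g, rfl⟩ := isConj_iff.1 hs
  obtain ⟨c, hcz, hce⟩ := h.conj_centres (s := g⁻¹ * z * g) (t := g * z * g⁻¹) (by
    obtain ⟨q, hq, eq'⟩ := h.z_mem_PG hsQ
    have eq2 : g⁻¹ * z * g = q := by
      rw [← eq']; show g⁻¹ * (g * q * g⁻¹) * g = q; group
    rw [eq2]; exact hq) hsQ (isConj_iff.2 ⟨g⁻¹, by rw [inv_inv]⟩) hs (fun e' => hs1 (by
      calc g * z * g⁻¹ = g * (g⁻¹ * z * g) * g⁻¹ := by rw [e']
        _ = z := by group)) hs1
  have hcz' := Subgroup.mem_centralizer_singleton_iff.1 hcz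
  have e1 : g * c⁻¹ * z * (g * c⁻¹)⁻¹ = g * z * g⁻¹ := by
    calc g * c⁻¹ * z * (g * c⁻¹)⁻¹ = g * (c⁻¹ * (z * c)) * g⁻¹ := by group
      _ = g * z * g⁻¹ := by rw [← hcz', inv_mul_cancel_left]
  have e2 : g * c⁻¹ * (g * z * g⁻¹) * (g * c⁻¹)⁻¹ = z := by
    calc g * c⁻¹ * (g * z * g⁻¹) * (g * c⁻¹)⁻¹ = g * (c⁻¹ * (g * z * g⁻¹) * c) * g⁻¹ := by group
      _ = g * (g⁻¹ * z * g) * g⁻¹ := by
          congr 2
          calc c⁻¹ * (g * z * g⁻¹) * c = c⁻¹ * (c * (g⁻¹ * z * g) * c⁻¹) * c := by rw [hce]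
            _ = g⁻¹ * z * g := by group
      _ = z := by group
  refine ⟨g * c⁻¹, fun x hx => ?_, e1⟩
  obtain ⟨hxz, hxs⟩ := mem_JC.1 hx
  generalize g * c⁻¹ = a at e1 e2
  generalize g * z * g⁻¹ = t at e1 e2 hxs
  refine mem_JC.2 ⟨?_, ?_⟩
  · rw [← e2]
    calc a * x * a⁻¹ * (a * t * a⁻¹) = a * (x * t) * a⁻¹ := by group
      _ = a * t * a⁻¹ * (a * x * a⁻¹) := by rw [hxs]; group
  · rw [← e1]
    calc a * x * a⁻¹ * (a * z * a⁻¹) = a * (x * z) * a⁻¹ := by group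
      _ = a * z * a⁻¹ * (a * x * a⁻¹) := by rw [hxz]; group

/-- The reduction for a subgroup of order three that is central in a Sylow subgroup. -/
theorem exists_setup (hM : IsOfMonsterType z Q) (hsQ : s ∈ QG Q) (hs : IsConj z s) (hs1 : s ≠ z) (Y : Subgroup G)
    (hY : Y ≤ Subgroup.centralizer ({z, s} : Set G)) (hY3 : Nat.card Y = 3)
    (hc : ∃ P : Sylow 3 ↥(Subgroup.centralizer ({z, s} : Set G)),
      Y.subgroupOf (Subgroup.centralizer ({z, s} : Set G)) ≤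
        (Subgroup.center ↥(P : Subgroup ↥(Subgroup.centralizer ({z, s} : Set G)))).map
          (P : Subgroup ↥(Subgroup.centralizer ({z, s} : Set G))).subtype) :
    ∃ (e : (Subgroup.centralizer ({z} : Set G)) ⧸ Q ≃* Cfsg.Spor.Co1) (ψ : leechLattice → Q ⧸ Subgroup.center Q)
      (b : G), Y = Subgroup.zpowers b ∧ Setup z Q e ψ 3 P0 Bs Gi b s none ∧
        ∃ h : G, h * z * h⁻¹ = s ∧ h * b * h⁻¹ ∈ Subgroup.zpowers b := by
  haveI : Fact (Nat.Prime 3) := ⟨Nat.prime_three⟩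
  obtain ⟨e, ψ, hψ⟩ := hM.2
  have h := MT.of_type hM hψ
  obtain ⟨y, hy⟩ := exists_prime_orderOf_dvd_card' (G := Y) 3 (by rw [hY3])
  have hyY : Subgroup.zpowers (y : G) = Y := by
    refine Subgroup.eq_of_le_of_card_ge (Subgroup.zpowers_le.2 y.2) ?_
    rw [Nat.card_zpowers, Subgroup.orderOf_coe, hy, hY3]
  have hyL : (y : G) ∈ JC z s := hY y.2
  obtain ⟨hyz, hys⟩ := mem_JC.1 hyL
  have hoy : orderOf (y : G) = 3 := by rw [Subgroup.orderOf_coe, hy]
  have hC : Central z s (y : G) := by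
    obtain ⟨P, hP⟩ := hc
    exact (central_iff_sylow (card_three h hsQ hs hs1) hyL).2 ⟨P, hyY.symm ▸ hP⟩
  obtain ⟨e₁, ψ₁, σ, hσ, hσo, h₁, hr₁, hi₁⟩ := exists_frame h hsQ hs hs1 Nat.prime_three rfl hoy hyz hys
  have hob₀ : orderOf (⟨(y : G), hyL⟩ : JC z s) = 3 := by rw [← Subgroup.orderOf_coe]; exact hoy
  obtain ⟨-, hσf⟩ := fix_some h₁ hr₁ hsQ hs hs1 ⟨y, hyL⟩ hob₀ hC
  have hjy : jperm h₁ hr₁ ⟨y, hyL⟩ = ⟨σ, hσ⟩ := jperm_eq h₁ hr₁ _ hσ hi₁
  rw [hjy] at hσf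
  obtain ⟨π, hπ, hconj⟩ := conj_gen hσ hσo hσf
  obtain ⟨e₂, ψ₂, b', hb'z, hgen, hob', h₂, hr₂, hi₂⟩ :=
    conj_frame h₁ hr₁ Nat.prime_three hoy hyz hσ hi₁ gen_mem hπ (j := 1) hσo order_gen (by rw [pow_one]; exact hconj)
  obtain rfl : Y = Subgroup.zpowers b' := (hgen.trans hyY).symm
  have hb'L : b' ∈ JC z s := hY (Subgroup.mem_zpowers b')
  obtain ⟨g₀, hg₀, hgk⟩ := exists_flip h hsQ hs hs1
  obtain ⟨P, hPJ, hPc, hyP, hPy⟩ := hC
  obtain ⟨j, hj⟩ := Subgroup.mem_zpowers_iff.1 (hgen ▸ Subgroup.mem_zpowers b' : b' ∈ Subgroup.zpowers (y : G))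
  have hx : Central z s (g₀ * b' * g₀⁻¹) := by
    refine ⟨P.map (MulAut.conj g₀).toMonoidHom, ?_, ?_, ⟨b', hj ▸ zpow_mem hyP j, rfl⟩, ?_⟩
    · rintro _ ⟨x, hx, rfl⟩
      exact hg₀ x (hPJ hx)
    · rw [Subgroup.card_map_of_injective (MulAut.conj g₀).injective, hPc]
    · rintro _ ⟨x, hx, rfl⟩
      show g₀ * x * g₀⁻¹ * (g₀ * b' * g₀⁻¹) = g₀ * b' * g₀⁻¹ * (g₀ * x * g₀⁻¹)
      have e1 : x * b' = b' * x := hj ▸ ((show Commute x (y : G) from hPy x hx).zpow_right j).eq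
      calc g₀ * x * g₀⁻¹ * (g₀ * b' * g₀⁻¹) = g₀ * (x * b') * g₀⁻¹ := by group
        _ = _ := by rw [e1]; group
  let b₀ : JC z s := ⟨b', hb'L⟩
  let b₁ : JC z s := ⟨g₀ * b' * g₀⁻¹, hg₀ b' hb'L⟩
  have ho0 : orderOf b₀ = 3 := by rw [← Subgroup.orderOf_coe]; exact hob'
  have ho1 : orderOf b₁ = 3 := by
    rw [← Subgroup.orderOf_coe]
    show orderOf (g₀ * b' * g₀⁻¹) = 3
    rw [← MulAut.conj_apply, MulEquiv.orderOf_eq, hob']
  obtain ⟨ho1', hf1⟩ := fix_some h₂ hr₂ hsQ hs hs1 b₁ ho1 hx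
  obtain ⟨π', hπ', hc1⟩ := conj_gen (jperm h₂ hr₂ b₁).2 (by rw [Subgroup.orderOf_coe, ho1']) hf1
  obtain ⟨u, hu⟩ := conj_of_perm h₂ hr₂ hsQ hs hs1 b₀ b₁ ho0 ho1 ⟨⟨π', hπ'⟩, by
    rw [jperm_eq h₂ hr₂ b₀ gen_mem hi₂]
    exact Subtype.ext hc1⟩
  obtain ⟨huz, hus⟩ := mem_JC.1 u.2
  refine ⟨e₂, ψ₂, b', rfl, ⟨h₂, Nat.prime_three, fix, hob', hb'z, hi₂, P0_pow, (mem_JC.1 hb'L).2, hsQ, hr₂, hs⟩,
    (u : G) * g₀, ?_, ?_⟩
  · calc (u : G) * g₀ * z * ((u : G) * g₀)⁻¹ = (u : G) * (g₀ * z * g₀⁻¹) * (u : G)⁻¹ := by group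
      _ = s := by rw [hgk, hus, mul_inv_cancel_right]
  · have h9 : (u : G) * (g₀ * b' * g₀⁻¹) * (u : G)⁻¹ = b' := congrArg Subtype.val hu
    rw [show (u : G) * g₀ * b' * ((u : G) * g₀)⁻¹ = (u : G) * (g₀ * b' * g₀⁻¹) * (u : G)⁻¹ by group, h9]
    exact Subgroup.mem_zpowers b'

/-- The section at an element of order three that is central in a Sylow subgroup. -/
theorem large_type (hM : IsOfMonsterType z Q) (hsQ : s ∈ QG Q) (hs : IsConj z s) (hs1 : s ≠ z) (Y : Subgroup G)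
    (hY : Y ≤ Subgroup.centralizer ({z, s} : Set G)) (hY3 : Nat.card Y = 3)
    (hc : ∃ P : Sylow 3 ↥(Subgroup.centralizer ({z, s} : Set G)),
      Y.subgroupOf (Subgroup.centralizer ({z, s} : Set G)) ≤
        (Subgroup.center ↥(P : Subgroup ↥(Subgroup.centralizer ({z, s} : Set G)))).map
          (P : Subgroup ↥(Subgroup.centralizer ({z, s} : Set G))).subtype)
    [(Y.subgroupOf (Subgroup.centralizer (Y : Set G))).Normal] :
    Cfsg.IsOfLargeFischerType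
      (↥(Subgroup.centralizer (Y : Set G)) ⧸ Y.subgroupOf (Subgroup.centralizer (Y : Set G))) := by
  obtain ⟨e, ψ, b, rfl, S, hswap⟩ := exists_setup hM hsQ hs hs1 Y hY hY3 hc
  exact large S hswap

end Cfsg.Agent.Spor.Leech.SixFix

end
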