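import Cfsg.Agent.Lib.Spor.Leech.OddFix.Setup
import Cfsg.Agent.Lib.Spor.Leech.SixFix.Gens
import Cfsg.Agent.Lib.Spor.Golay.AutSearch

/-!
The commuting coordinate permutations of a permutation of order three with six fixed points, and the members of its
centraliser fixing the standard cross.
-/

set_option autoImplicit false
set_option maxRecDepth 100000
set_option maxHeartbeats 1000000
set_option Elab.async false

noncomputable section

namespace Cfsg.Agent.Spor.Leech.SixFix

open Cfsg Cfsg.Agent.Spor.Leech.OddFix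
open Cfsg.Agent.Spor.Cos (of_blocks allBlock force force_eq)
open scoped Pointwise

/-- The data of a commuting permutation. -/
def chkR (i : ℕ) : Bool :=
  if i = 0 then Nat.beq (rT.at i) Golay.idP && (List.range 12).all fun c => Nat.beq (col (rM.at i) c) (2 ^ c)
  else force (rU.at i % 16) fun k => force (rU.at i >>> 4) fun p => Nat.blt k 3 && Nat.blt p i &&
    Nat.beq (rT.at i) (Golay.comp (gEnt k).1 (rT.at p)) &&
      force (rM.at i) fun X => force (rM.at p) fun Y => force (gEnt k).2 fun Z =>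
        (List.range 12).all fun c => Nat.beq (col X c) (mapX Z (col Y c))

theorem rT_check : ∀ i < 1080, chkR i = true :=
  of_blocks (size := 135) (b := 8) (by decide) (by decide) fun j hj => by interval_cases j <;> decide +kernel

theorem gG_good {k : ℕ} (hk : k < 3) {g : Cent P0} (h : A g = mat (gEnt k).2) : Good g :=
  (gE_good (k := k) (by omega)).congr (by rw [A_gE, h, genX, if_pos hk])

theorem gC_good {k : ℕ} (hk : k < 64) {g : Cent P0} (h : A g = mat (cEnt k).2) : Good g :=
  (gE_good (k := k + 3) (by omega)).congr (by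
    rw [A_gE, h, genX, if_neg (by omega), if_pos (by omega), Nat.add_sub_cancel])

theorem gR_spec : ∀ i < 1080, ∃ g : Cent P0, Golay.valid (rT.at i) = true ∧
    (∃ h : Golay.permOf (rT.at i) ∈ M24, (g : Co0) = mono h empty_code) ∧ A g = mat (rM.at i) ∧ Good g := by
  intro i
  induction i using Nat.strong_induction_on with
  | _ i ih =>
    intro hi
    have h := rT_check i hi
    by_cases h0 : i = 0
    · rw [chkR, if_pos h0] at h
      simp only [Bool.and_eq_true, Nat.beq_eq, List.all_eq_true, List.mem_range] at h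
      refine ⟨1, by rw [h.1]; exact Golay.valid_idP, ⟨by rw [h.1, Golay.permOf_idP]; exact one_mem _, ?_⟩,
        mulVec_ext_basis fun c hc => by rw [A_one, Matrix.one_mulVec, mat_col _ hc, h.2 c hc], Good.one⟩
      refine ext_axis fun q => ?_
      rw [OneMemClass.coe_one, one_smul, mono_axis, if_neg (Finset.notMem_empty _), h.1, Golay.permOf_idP,
        Equiv.Perm.one_apply]
    · rw [chkR, if_neg h0] at h
      simp only [force_eq, Bool.and_eq_true, Nat.beq_eq, List.all_eq_true, List.mem_range] at h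
      obtain ⟨⟨⟨hk, hlt⟩, hR⟩, hp⟩ := h
      replace hk := Nat.le_of_ble_eq_true hk
      replace hlt := Nat.le_of_ble_eq_true hlt
      obtain ⟨g, hv, ⟨hm, hg⟩, hA, hG⟩ := ih _ hlt (lt_trans hlt hi)
      obtain ⟨k, ⟨hmk, hke⟩, hkA⟩ := gG_spec (gEnt_mem hk)
      have hvk := Golay.PermConj.valid_of_inM24 (by
        have h1 := List.all_eq_true.1 gG_check _ (gEnt_mem hk)
        simp only [chkG, Bool.and_eq_true] at h1
        exact h1.1.1)
      have hvv := Golay.valid_comp hvk hv
      refine ⟨k * g, hR ▸ hvv, ⟨by rw [hR, Golay.permOf_comp hvk hv]; exact mul_mem hmk hm, ?_⟩,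
        mulVec_ext_basis fun c hc => ?_, (gG_good hk hkA).mul hG⟩
      · refine ext_axis fun q => ?_
        rw [Subgroup.coe_mul, hg, hke, mono_empty_mul, mono_axis, mono_axis, hR, Golay.permOf_comp hvk hv]
      · rw [A_mul, ← Matrix.mulVec_mulVec, hA, hkA, mat_col _ hc, mat_col _ hc, mat_mulVec, hp c hc]

/-- A listed commuting permutation as an automorphism. -/
def rE (i : ℕ) : Cent P0 := if h : i < 1080 then (gR_spec i h).choose else 1

theorem rE_spec {i : ℕ} (hi : i < 1080) : Golay.valid (rT.at i) = true ∧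
    (∃ h : Golay.permOf (rT.at i) ∈ M24, (rE i : Co0) = mono h empty_code) ∧ A (rE i) = mat (rM.at i) ∧
      Good (rE i) := by
  rw [rE, dif_pos hi]; exact (gR_spec i hi).choose_spec

/-- A listed sign change as an automorphism. -/
def cE (k : ℕ) : Cent P0 := if h : k < 64 then (gC_spec h).choose else 1

theorem cE_spec {k : ℕ} (hk : k < 64) :
    (∃ h : Golay.pts (cEnt k).1 ∈ supports (golayCode : Set (GolayPt → ZMod 2)),
      (cE k : Co0) = mono (one_mem M24) h) ∧ A (cE k) = mat (cEnt k).2 ∧ Good (cE k) := by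
  rw [cE, dif_pos hk]
  exact ⟨(gC_spec hk).choose_spec.1, (gC_spec hk).choose_spec.2, gC_good hk (gC_spec hk).choose_spec.2⟩

theorem fixL_lt : ∀ l < 60, fixL.getD l 0 < 1080 := by decide +kernel

theorem stab_cover : ((Golay.PermConj.conjList0 g3 (Golay.PermConj.pw g3 1)).all fun R =>
    (List.range 60).any fun l => Nat.beq R (rT.at (fixL.getD l 0))) = true := by decide +kernel

/-- The list is closed under the two-step decomposition. -/
def chkProd (j : ℕ) : Bool :=
  Nat.beq (Golay.get g3 j) j || force (transL.getD j 0) fun t => Nat.blt t 1080 && Nat.beq (Golay.get (rT.at t) 0) j &&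
    (List.range 60).all fun l => force (prodT.at (60 * j + l)) fun r => Nat.blt r 1080 &&
      Nat.beq (Golay.comp (rT.at t) (rT.at (fixL.getD l 0))) (rT.at r)

theorem prod_check : ∀ j < 24, chkProd j = true :=
  of_blocks (size := 4) (b := 6) (by decide) (by decide) fun j hj => by interval_cases j <;> decide +kernel

theorem prod_spec {j : ℕ} (hj : j < 24) (hne : Golay.get g3 j ≠ j) :
    transL.getD j 0 < 1080 ∧ Golay.get (rT.at (transL.getD j 0)) 0 = j ∧
    ∀ l < 60, prodT.at (60 * j + l) < 1080 ∧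
      Golay.comp (rT.at (transL.getD j 0)) (rT.at (fixL.getD l 0)) = rT.at (prodT.at (60 * j + l)) := by
  have h := prod_check j hj
  simp only [chkProd, force_eq, Bool.or_eq_true, Bool.and_eq_true, List.all_eq_true, List.mem_range, Nat.beq_eq,
    hne, false_or] at h
  exact ⟨Nat.le_of_ble_eq_true h.1.1, h.1.2, fun l hl => ⟨Nat.le_of_ble_eq_true (h.2 l hl).1, (h.2 l hl).2⟩⟩

theorem cent_of_valid {R : ℕ} {g : Cent P0} (h : ∃ h : Golay.permOf R ∈ M24, (g : Co0) = mono h empty_code) :
    Golay.permOf R ∈ M24 ∧ Golay.permOf R * gen = gen * Golay.permOf R := by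
  obtain ⟨hm, he⟩ := h
  have h := mem_Cent.1 g.2
  rw [he, P0, mono_empty_mul, mono_empty_mul] at h
  exact ⟨hm, (mono_inj _ _ _ _ h).1⟩

theorem reduce_first {R₀ : ℕ} (hv : Golay.valid R₀ = true) (hm : Golay.permOf R₀ ∈ M24)
    (hc : Golay.permOf R₀ * gen = gen * Golay.permOf R₀) {n : Equiv.Perm GolayPt} (hn : n ∈ M24)
    (e : n * gen = gen * n) (h0 : Golay.get R₀ 0 = Golay.idx (n (Golay.pt 0))) :
    ∃ R ∈ Golay.PermConj.conjList0 g3 (Golay.PermConj.pw g3 1), Golay.permOf R₀ * Golay.permOf R = n := by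
  have hπ0 : Golay.permOf R₀ (Golay.pt 0) = n (Golay.pt 0) := Golay.idx_injective (by
    rw [Golay.idx_permOf hv, Golay.idx_pt (by norm_num : 0 < 24), h0])
  obtain ⟨R, hR, eR⟩ := Golay.PermConj.mem_conjList0 g3_checks.2.1 (k := 1) (n := (Golay.permOf R₀)⁻¹ * n)
    (mul_mem (inv_mem hm) hn) (by
      rw [pow_one]
      show (Golay.permOf R₀)⁻¹ * n * gen = gen * ((Golay.permOf R₀)⁻¹ * n)
      rw [mul_assoc, e, ← mul_assoc, ← mul_assoc, (show Commute (Golay.permOf R₀) gen from hc).inv_left.eq])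
    (by rw [Equiv.Perm.mul_apply, ← hπ0, Equiv.Perm.inv_def, Equiv.symm_apply_apply])
  exact ⟨R, hR, by rw [eR, mul_inv_cancel_left]⟩

theorem moved {n : Equiv.Perm GolayPt} (e : n * gen = gen * n) :
    Golay.get g3 (Golay.idx (n (Golay.pt 0))) ≠ Golay.idx (n (Golay.pt 0)) := by
  intro h
  have h1 : gen (n (Golay.pt 0)) = n (Golay.pt 0) := by rw [gen_apply, h, Golay.pt_idx]
  have h2 : gen (Golay.pt 0) = Golay.pt 0 := by
    refine n.injective ?_
    rw [← Equiv.Perm.mul_apply, e, Equiv.Perm.mul_apply, h1]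
  have h3 := g3_checks.2.2.2
  rw [← Golay.idx_pt (by norm_num : 0 < 24)] at h3
  have h4 := congrArg Golay.idx h2
  rw [gen, Golay.idx_permOf g3_checks.2.1] at h4
  rw [h4] at h3
  simp at h3

theorem cent_listed {n : Equiv.Perm GolayPt} (hn : n ∈ M24) (e : n * gen = gen * n) :
    ∃ i < 1080, Golay.permOf (rT.at i) = n := by
  obtain ⟨ht, h0, hl⟩ := prod_spec (Golay.idx_lt (n (Golay.pt 0))) (moved e)
  obtain ⟨hva, ha, -⟩ := rE_spec ht
  obtain ⟨hma, hc⟩ := cent_of_valid ha
  obtain ⟨R, hR, eR⟩ := reduce_first hva hma hc hn e h0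
  obtain ⟨l, hl60, hlR⟩ := List.any_eq_true.1 (List.all_eq_true.1 stab_cover R hR)
  rw [List.mem_range] at hl60
  obtain ⟨hlt, hprod⟩ := hl l hl60
  refine ⟨_, hlt, ?_⟩
  obtain ⟨hvl, -⟩ := rE_spec (fixL_lt l hl60)
  rw [← hprod, Golay.permOf_comp hva hvl, ← Nat.eq_of_beq_eq_true hlR, eR]

/-- A member of the stabiliser of the standard cross as a product of the listed ones. -/
theorem exists_stab {h : Cent P0} (hs : (h : Co0) ∈ crossStab) : ∃ i < 1080, ∃ k < 64,
    h = cE k * rE i ∧ ∀ v : leechLattice, (((h : Co0) • v : leechLattice) : Vec) =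
      signedPerm (Golay.permOf (rT.at i)) (Golay.pts (cEnt k).1) (v : Vec) := by
  obtain ⟨π, hπ, c, hcc, he⟩ := exists_mono hs
  have hc := mem_Cent.1 h.2
  obtain ⟨e1, e2⟩ := mono_mul_mono hπ gen_mem hcc
  rw [he, P0, e1, e2] at hc
  obtain ⟨hcomm, hce⟩ := mono_inj _ _ _ _ hc
  obtain ⟨i, hi, hxR⟩ := cent_listed hπ hcomm
  obtain ⟨m, hm, rfl⟩ := Golay.mem_supports.1 hcc
  have hm' : ∀ j < 24, m.testBit j = m.testBit (Golay.get g3 j) := fun j hj => by
    have h1 : Golay.pt j ∈ Golay.pts m ↔ gen (Golay.pt j) ∈ Golay.pts m := by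
      conv_rhs => rw [hce]
      exact (Finset.smul_mem_smul_finset_iff gen).symm
    rw [Golay.mem_pts, Golay.mem_pts, gen, Golay.idx_permOf g3_checks.2.1, Golay.idx_pt hj] at h1
    exact Bool.eq_iff_iff.2 h1
  obtain ⟨k, hk, hym⟩ := cover_code hm hm'
  obtain ⟨-, ⟨ha, ea⟩, -⟩ := rE_spec hi
  obtain ⟨⟨hb, eb⟩, -⟩ := cE_spec hk
  have hh : h = cE k * rE i := Subtype.ext (by
    rw [Subgroup.coe_mul, ea, eb, (mono_mul_mono (one_mem M24) ha hb).1, he]
    exact ext_axis fun i => by simp only [mono_axis, one_mul, hxR, hym])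
  exact ⟨i, hi, k, hk, hh, fun v => by rw [he, mono_apply, hxR, hym]⟩

theorem stab_good {h : Cent P0} (hs : (h : Co0) ∈ crossStab) : Good h := by
  obtain ⟨i, hi, k, hk, rfl, -⟩ := exists_stab hs
  exact (cE_spec hk).2.2.mul (rE_spec hi).2.2.2

end Cfsg.Agent.Spor.Leech.SixFix

end
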