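import Cfsg.Agent.Lib.Spor.Leech.SixFix.Stab

/-!
The fixed classes by their norms, and the decomposition of the centraliser along the classes of norm 64.
-/

set_option autoImplicit false
set_option maxRecDepth 100000
set_option maxHeartbeats 1000000
set_option Elab.async false

noncomputable section

namespace Cfsg.Agent.Spor.Leech.SixFix

open Cfsg Cfsg.Agent.Spor.Leech.OddFix
open Cfsg.Agent.Spor.CoSuz (decV)
open Cfsg.Agent.Spor.Cos (of_blocks allBlock force force_eq Tab)

/-- The class of an entry. -/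
def eMask (T : Tab) (i : ℕ) : ℕ := T.at i % 4096

/-- An entry comes from an earlier one. -/
def chkTree (T : Tab) (root i : ℕ) : Bool :=
  if i = 0 then Nat.beq (eMask T i) root
  else force (T.at i) fun e => force ((e >>> 12) % 256) fun k => force (e >>> 20) fun p =>
    Nat.blt k 68 && Nat.blt p i && Nat.beq (mapX (genX k) (eMask T p)) (e % 4096)

theorem treeA_check : ∀ i < 1701, chkTree treeA ax i = true :=
  of_blocks (size := 243) (b := 7) (by decide) (by decide) fun j hj => by interval_cases j <;> decide +kernel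

theorem treeS_check : ∀ i < 378, chkTree treeS rootS.1 i = true :=
  of_blocks (size := 189) (b := 2) (by decide) (by decide) fun j hj => by interval_cases j <;> decide +kernel

theorem treeM_check : ∀ i < 2016, chkTree treeM rootM.1 i = true :=
  of_blocks (size := 288) (b := 7) (by decide) (by decide) fun j hj => by interval_cases j <;> decide +kernel

theorem orbit_spec {T : Tab} {root n : ℕ} (hT : ∀ i < n, chkTree T root i = true) {v : leechLattice}
    (hv : Fixed P0 v) (hco : co Bs Gi v = bits root) :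
    ∀ i < n, ∃ g : Cent P0, Good g ∧ co Bs Gi ((g : Co0) • v) = bits (eMask T i) := by
  intro i
  induction i using Nat.strong_induction_on with
  | _ i ih =>
    intro hi
    have h := hT i hi
    by_cases h0 : i = 0
    · rw [chkTree, if_pos h0] at h
      exact ⟨1, Good.one, by rw [Nat.eq_of_beq_eq_true h, OneMemClass.coe_one, one_smul, hco]⟩
    · rw [chkTree, if_neg h0] at h
      simp only [force_eq, Bool.and_eq_true, Nat.beq_eq] at h
      obtain ⟨⟨hk, hlt⟩, hm⟩ := h
      replace hk := Nat.le_of_ble_eq_true hk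
      replace hlt := Nat.le_of_ble_eq_true hlt
      obtain ⟨g, hg, hgc⟩ := ih _ hlt (lt_trans hlt hi)
      refine ⟨gE ((T.at i >>> 12) % 256) * g, (gE_good hk).mul hg, ?_⟩
      rw [Subgroup.coe_mul, mul_smul, A_mulVec _ (fixed_smul g hv), hgc, A_gE, mat_mulVec, hm]
      rfl

theorem treeA_spec : ∀ i < 1701, ∃ g : Cent P0, Good g ∧ co Bs Gi ((g : Co0) • axis none) = bits (eMask treeA i) :=
  orbit_spec treeA_check (axis_fixed none) axis_co

/-- The data of a class. -/
def chkLoc (a : ℕ) : Bool := Nat.beq a 0 || force (locT.at a) fun l => force (l >>> 2) fun i =>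
  (Nat.beq (l % 4) 0 && Nat.blt i 1701 && Nat.beq (eMask treeA i) a) ||
  (Nat.beq (l % 4) 1 && Nat.blt i 378 && Nat.beq (eMask treeS i) a) ||
  (Nat.beq (l % 4) 2 && Nat.blt i 2016 && Nat.beq (eMask treeM i) a)

theorem loc_check : ∀ a < 4096, chkLoc a = true :=
  of_blocks (size := 512) (b := 8) (by decide) (by decide) fun j hj => by interval_cases j <;> decide +kernel

theorem not_low {v w : leechLattice} (hv : Fixed P0 v) (hw : Fixed P0 w) (hn : sqNorm (v : Vec) = 64)
    (hwn : sqNorm (w : Vec) = 32 ∨ sqNorm (w : Vec) = 48) (h : co Bs Gi v = co Bs Gi w) : False := by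
  have h0 : cls v = cls w := (fix.co_inj hv hw).1 h
  rcases congr_short v.2 w.2 (by omega) (by omega) (cls_eq.1 h0) with e | e | ⟨-, e, -⟩
  · rw [e] at hn; omega
  · rw [e, norm_neg] at hn; omega
  · omega

/-- The coordinates of a fixed class of norm 64 are among the listed ones. -/
theorem frame_mask {v : leechLattice} (hv : Fixed P0 v) (hn : sqNorm (v : Vec) = 64) :
    ∃ i < 1701, co Bs Gi v = bits (eMask treeA i) := by
  obtain ⟨a, ha, hb⟩ := bits_surj (co Bs Gi v)
  have h := loc_check a ha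
  simp only [chkLoc, force_eq, Bool.or_eq_true, Bool.and_eq_true, Nat.beq_eq] at h
  rcases h with h | (⟨⟨-, hi⟩, h⟩ | ⟨⟨-, hi⟩, h⟩) | ⟨⟨-, hi⟩, h⟩
  · exfalso
    have h0 : cls v = cls 0 := (fix.co_inj hv Fixed.zero).1 (by
      rw [co_zero', ← hb, h]; funext k; simp [bits])
    have hz : sqNorm ((0 : leechLattice) : Vec) = 0 := by simp [sqNorm]
    rcases congr_short v.2 (0 : leechLattice).2 (by omega) (by omega) (cls_eq.1 h0) with e | e | ⟨-, e, -⟩
    · rw [e] at hn; omega
    · rw [e, norm_neg] at hn; omega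
    · omega
  · exact ⟨_, Nat.le_of_ble_eq_true hi, by rw [h, hb]⟩
  · exfalso
    obtain ⟨hinL, hf, hco, hnorm, -⟩ := roots_check
    obtain ⟨g, -, hg⟩ := orbit_spec treeS_check (v := mkV rootS.2 hinL) (fixed_of_chk rfl hf)
      (by rw [co_mkV _ _ rfl, hco]) _ (Nat.le_of_ble_eq_true hi)
    exact not_low hv (fixed_smul g (v := mkV rootS.2 hinL) (fixed_of_chk rfl hf)) hn (Or.inl (by rw [co_norm]; exact hnorm))
      (by rw [hg, h, hb])
  · exfalso
    obtain ⟨-, -, -, -, hinL, hf, hco, hnorm⟩ := roots_check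
    obtain ⟨g, -, hg⟩ := orbit_spec treeM_check (v := mkV rootM.2 hinL) (fixed_of_chk rfl hf)
      (by rw [co_mkV _ _ rfl, hco]) _ (Nat.le_of_ble_eq_true hi)
    exact not_low hv (fixed_smul g (v := mkV rootM.2 hinL) (fixed_of_chk rfl hf)) hn (Or.inr (by rw [co_norm]; exact hnorm))
      (by rw [hg, h, hb])

/-- A chosen element for an entry. -/
def tE (i : ℕ) : Cent P0 := if h : i < 1701 then (treeA_spec i h).choose else 1

theorem tE_spec {i : ℕ} (hi : i < 1701) :
    Good (tE i) ∧ co Bs Gi ((tE i : Co0) • axis none) = bits (eMask treeA i) := by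
  rw [tE, dif_pos hi]; exact (treeA_spec i hi).choose_spec

theorem decomp (g : Cent P0) : ∃ i < 1701, ∃ a < 1080, ∃ k < 64, g = tE i * (cE k * rE a) ∧ Good g := by
  obtain ⟨i, hi, hco⟩ := frame_mask (fixed_smul g (axis_fixed none)) (by rw [co_norm, axis_norm])
  obtain ⟨hG, ht⟩ := tE_spec hi
  have hst : (((tE i)⁻¹ * g : Cent P0) : Co0) ∈ crossStab := by
    rw [← stabC_eq_crossStab none, mem_stabC, Subgroup.coe_mul, Subgroup.coe_inv, mul_smul,
      congr_smul ((fix.co_inj (fixed_smul g (axis_fixed none)) (fixed_smul (tE i) (axis_fixed none))).1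
        (hco.trans ht.symm)), inv_smul_smul]
  obtain ⟨a, ha, k, hk, e, -⟩ := exists_stab hst
  have hg : g = tE i * (cE k * rE a) := by rw [← e, mul_inv_cancel_left]
  exact ⟨i, hi, a, ha, k, hk, hg, hg ▸ hG.mul ((cE_spec hk).2.2.mul (rE_spec ha).2.2.2)⟩

theorem all_good (g : Cent P0) : Good g := by
  obtain ⟨_, _, _, _, _, _, _, h⟩ := decomp g
  exact h

theorem card_cent_le : Nat.card (Cent P0) ≤ 117573120 := by
  have hs : Function.Surjective fun x : Fin 1701 × Fin 1080 × Fin 64 => tE x.1 * (cE x.2.2 * rE x.2.1) := by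
    intro g
    obtain ⟨i, hi, a, ha, k, hk, e, -⟩ := decomp g
    exact ⟨(⟨i, hi⟩, ⟨a, ha⟩, ⟨k, hk⟩), e.symm⟩
  refine (Nat.card_le_card_of_surjective _ hs).trans (le_of_eq ?_)
  rw [Nat.card_prod, Nat.card_prod, Nat.card_fin, Nat.card_fin, Nat.card_fin]

end Cfsg.Agent.Spor.Leech.SixFix

end
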